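import Cfsg.Agent.FusionEssential.Chain
import Cfsg.Prelude.Def_ClassificationK

/-!
# First properties of essential subgroups

* `eq_bot_of_stronglyPEmbedded`: a group with a strongly `p`-embedded subgroup has no nontrivial
  normal `p`-subgroup.
* `map_le_Inn`, `exists_pElement_not_inn`, `not_pGroup_normal`: consequences for essential subgroups.
* `false_of_chain`: an essential subgroup has no invariant chain with all factors of order dividing `p`.
-/

set_option autoImplicit false
set_option linter.style.haveILetI false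

namespace CfsgLib.FusionEssential

open Cfsg Cfsg.FusionSystem CfsgLib.Fusion

theorem eq_bot_of_stronglyPEmbedded {X : Type*} [Group X] [Finite X] {p : ℕ} [Fact p.Prime]
    {E : Subgroup X} (hE : IsStronglyPEmbedded p E) {N : Subgroup X} (hN : N.Normal)
    (hp : IsPGroup p N) : N = ⊥ := by
  by_contra hne
  obtain ⟨-, htop, P, hP⟩ := hE
  obtain ⟨R, hR⟩ := hp.exists_le_sylow
  obtain ⟨g, hg⟩ := MulAction.exists_smul_eq X R P
  have hNP : N ≤ (P : Subgroup X) := by
    intro x hx
    rw [← hg, Sylow.coe_subgroup_smul]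
    exact ⟨g⁻¹ * x * g, hR (by simpa using hN.conj_mem x hx g⁻¹), by simp [mul_assoc]⟩
  have hrank : ¬ PRankLE p (1 - 1) N := by
    haveI : Nontrivial N := (Subgroup.nontrivial_iff_ne_bot N).2 hne
    obtain ⟨k, hk, hcard⟩ := hp.nontrivial_iff_card.1 inferInstance
    obtain ⟨z, hz⟩ := exists_prime_orderOf_dvd_card' p (G := N) (by rw [hcard]; exact dvd_pow_self p hk.ne')
    intro h
    have h1 := h (Subgroup.zpowers z) inferInstance (by
      rintro a ⟨k, rfl⟩
      rw [← zpow_natCast, ← zpow_mul, mul_comm, zpow_mul, zpow_natCast, ← hz, pow_orderOf_eq_one,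
        one_zpow])
    rw [Nat.card_zpowers, hz] at h1
    have := (Fact.out : p.Prime).one_lt
    simp at h1
    omega
  have h1 : Subgroup.normalizer (N : Set X) ≤ kGeneratedCore p 1 (P : Subgroup X) :=
    le_iSup (fun Q : {Q : Subgroup X // Q ≤ (P : Subgroup X) ∧ ¬ PRankLE p (1 - 1) Q} =>
      Subgroup.normalizer ((Q : Subgroup X) : Set X)) ⟨N, hNP, hrank⟩
  rw [Subgroup.normalizer_eq_top_iff.2 hN] at h1
  exact htop (top_le_iff.1 (h1.trans hP))

variable {Ω : Type*} [Group Ω] {S : Subgroup Ω} {F : FusionSystem S} {H : Subgroup Ω}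

theorem finite_autGroup [Finite S] (hH : H ≤ S) : Finite (F.autGroup H) := by
  haveI := finite_of_le hH
  infer_instance

theorem map_le_Inn [Finite S] {p : ℕ} [Fact p.Prime] (hess : F.IsEssential p H)
    {K : Subgroup (F.autGroup H)} (hK : K.Normal) (hKp : IsPGroup p K) :
    K.map (F.autGroup H).subtype ≤ Inn H := by
  obtain ⟨hn, E, hE⟩ := hess.2.2
  haveI := finite_of_le hess.1.1
  haveI := hn
  let q := QuotientGroup.mk' ((Inn H).subgroupOf (F.autGroup H))
  have h := eq_bot_of_stronglyPEmbedded hE (hK.map q (QuotientGroup.mk'_surjective _)) (hKp.map q)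
  rintro _ ⟨α, hα, rfl⟩
  have h1 : q α ∈ K.map q := ⟨α, hα, rfl⟩
  rw [h, Subgroup.mem_bot] at h1
  exact (QuotientGroup.eq_one_iff (N := (Inn H).subgroupOf (F.autGroup H)) α).1 h1

theorem exists_pElement_not_inn [Finite S] {p : ℕ} [Fact p.Prime] (hess : F.IsEssential p H) :
    ∃ α : F.autGroup H, (∃ k : ℕ, α ^ (p ^ k) = 1) ∧ (α : MulAut H) ∉ Inn H := by
  obtain ⟨hn, E, hE⟩ := hess.2.2
  haveI := finite_of_le hess.1.1
  haveI := hn
  obtain ⟨P⟩ : Nonempty (Sylow p (F.autGroup H)) := inferInstance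
  by_contra hc
  push Not at hc
  have hle : (P : Subgroup (F.autGroup H)) ≤ (Inn H).subgroupOf (F.autGroup H) := by
    intro α hα
    obtain ⟨k, hk⟩ := P.isPGroup' ⟨α, hα⟩
    exact hc α ⟨k, by simpa using congrArg Subtype.val hk⟩
  have hdvd : ¬ p ∣ ((Inn H).subgroupOf (F.autGroup H)).index := fun h =>
    P.not_dvd_index (h.trans (Subgroup.index_dvd_of_le hle))
  exact hdvd (by rw [Subgroup.index_eq_card]; exact hE.1)

/-- An essential subgroup has no `Aut_F(H)`-invariant chain all of whose factors have order dividing `p`. -/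
theorem false_of_chain [Finite S] {p : ℕ} [Fact p.Prime] (hS : IsPGroup p S)
    (hess : F.IsEssential p H) (C : ℕ → Subgroup H) (m : ℕ) (h0 : C 0 = ⊤) (hm : C m = ⊥)
    (hinv : ∀ α ∈ F.autGroup H, ∀ i, ∀ x ∈ C i, α x ∈ C i)
    (hnormal : ∀ i, i < m → ((C (i + 1)).subgroupOf (C i)).Normal)
    (hidx : ∀ i, i < m → (C (i + 1)).relIndex (C i) ∣ p) : False := by
  haveI := finite_of_le hess.1.1
  have hHp : IsPGroup p H := hS.to_le hess.1.1
  obtain ⟨α, ⟨k, hk⟩, hout⟩ := exists_pElement_not_inn hess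
  let K := stabChain (F.autGroup H) C m hinv
  have hαK : α ∈ K := by
    intro i hi x hx
    haveI := hnormal i hi
    rcases (Nat.dvd_prime (Fact.out : p.Prime)).1 (hidx i hi) with h1 | hp'
    · have hle : C i ≤ C (i + 1) := Subgroup.relIndex_eq_one.1 h1
      exact (C (i + 1)).mul_mem ((C (i + 1)).inv_mem (hle hx)) (hle (hinv _ α.2 i x hx))
    exact inv_mul_apply_mem_of_relIndex hp' (k := k)
      (by simpa using congrArg Subtype.val hk) (hinv _ α.2 i) (hinv _ α.2 _) hx
  exact hout (map_le_Inn hess stabChain_normal (stabChain_isPGroup hHp h0 hm) ⟨α, hαK, rfl⟩)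

end CfsgLib.FusionEssential
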