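import Cfsg.Agent.FusionEssential.Aut
import Cfsg.Agent.Solvable.Frattini
import Mathlib.Data.Nat.Choose.Dvd
import Mathlib.Tactic.Ring

/-!
# Abelian essential subgroups with Frattini quotient of order at most `p ^ 2`

Such a subgroup is homocyclic of rank two; if `p ≥ 5` it has exponent `p`.
-/

set_option autoImplicit false
set_option linter.style.haveILetI false

namespace CfsgLib.FusionEssential

open Cfsg Cfsg.FusionSystem CfsgLib.Fusion

section Abelian

variable {H : Type*} [CommGroup H] [Finite H] (p : ℕ) [Fact p.Prime]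

/-- The subgroup of `p ^ i`-th powers of a commutative group. -/
def powRange (i : ℕ) : Subgroup H := (powMonoidHom (p ^ i) : H →* H).range

omit [Finite H] [Fact p.Prime] in
theorem mem_powRange {i : ℕ} {x : H} : x ∈ powRange p i ↔ ∃ y : H, y ^ (p ^ i) = x := Iff.rfl

omit [Finite H] [Fact p.Prime] in
theorem powRange_zero : powRange (H := H) p 0 = ⊤ := by
  ext x
  simp [mem_powRange]

omit [Finite H] [Fact p.Prime] in
theorem powRange_succ (i : ℕ) :
    powRange (H := H) p (i + 1) = (powRange p 1).map (powMonoidHom (p ^ i)) := by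
  ext x
  constructor
  · rintro ⟨y, rfl⟩
    exact ⟨y ^ p, ⟨y, by simp⟩, by simp [pow_succ', pow_mul]⟩
  · rintro ⟨_, ⟨y, rfl⟩, rfl⟩
    exact ⟨y, by simp [pow_succ', pow_mul]⟩

omit [Finite H] [Fact p.Prime] in
theorem card_powRange_mul (i : ℕ) :
    Nat.card (powRange (H := H) p i) * Nat.card (powMonoidHom (p ^ i) : H →* H).ker =
      Nat.card H := by
  rw [powRange, ← Nat.card_congr (QuotientGroup.quotientKerEquivRange _).toEquiv,
    ← Subgroup.card_eq_card_quotient_mul_card_subgroup]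

theorem frattini_eq_powRange (hH : IsPGroup p H) : frattini H = powRange p 1 := by
  refine le_antisymm (CfsgLib.Solvable.frattini_le_of_elementary (p := p) ?_ fun x => ⟨x, by simp⟩) ?_
  · rw [commutator_eq_closure, Subgroup.closure_le]
    rintro _ ⟨a, b, rfl⟩
    rw [commutatorElement_eq_one_iff_mul_comm.2 (mul_comm a b)]
    exact Subgroup.one_mem _
  · rintro _ ⟨x, rfl⟩
    simpa using CfsgLib.Solvable.pow_mem_frattini hH x

theorem exists_mulEquiv_homocyclic (hH : IsPGroup p H) {e : ℕ}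
    (hexp : ∀ x : H, x ^ (p ^ e) = 1) (hΦ : (frattini H).index = p ^ 2)
    (hcard : Nat.card H = p ^ (2 * e)) :
    Nonempty (H ≃* Multiplicative (ZMod (p ^ e) × ZMod (p ^ e))) := by
  classical
  haveI := Fintype.ofFinite H
  obtain ⟨T, -, hT, hgen⟩ := (CfsgLib.Solvable.burnside_basis hH 2 hΦ).1 Finset.univ (by simp)
  obtain ⟨x, y, -, rfl⟩ := Finset.card_eq_two.1 hT
  haveI : NeZero (p ^ e) := ⟨pow_ne_zero e (Fact.out : p.Prime).ne_zero⟩
  let hom : H → (ZMod (p ^ e) →+ Additive H) := fun a =>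
    ZMod.lift (p ^ e) ⟨zmultiplesHom (Additive H) (Additive.ofMul a), by
      show (((p ^ e : ℕ) : ℤ)) • Additive.ofMul a = 0
      rw [natCast_zsmul, ← ofMul_pow, hexp, ofMul_one]⟩
  let g : ZMod (p ^ e) × ZMod (p ^ e) →+ Additive H := (hom x).coprod (hom y)
  have hhom : ∀ a : H, hom a 1 = Additive.ofMul a := fun a => by
    have h := ZMod.lift_coe (p ^ e) ⟨zmultiplesHom (Additive H) (Additive.ofMul a), by
      show (((p ^ e : ℕ) : ℤ)) • Additive.ofMul a = 0
      rw [natCast_zsmul, ← ofMul_pow, hexp, ofMul_one]⟩ 1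
    simpa [hom] using h
  let G : Multiplicative (ZMod (p ^ e) × ZMod (p ^ e)) →* H := AddMonoidHom.toMultiplicativeLeft g
  have hsurj : Function.Surjective G := by
    rw [← MonoidHom.range_eq_top, eq_top_iff, ← hgen, Subgroup.closure_le]
    intro z hz
    simp only [Finset.coe_insert, Finset.coe_singleton, Set.mem_insert_iff,
      Set.mem_singleton_iff] at hz
    rcases hz with rfl | rfl
    · exact ⟨Multiplicative.ofAdd (1, 0), by simp [G, g, hhom]⟩
    · exact ⟨Multiplicative.ofAdd (0, 1), by simp [G, g, hhom]⟩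
  have hbij : Function.Bijective G := (Nat.bijective_iff_surjective_and_card G).2 ⟨hsurj, by
    rw [Nat.card_congr Multiplicative.toAdd, Nat.card_prod, Nat.card_zmod, hcard, ← pow_add, two_mul]⟩
  exact ⟨(MulEquiv.ofBijective G hbij).symm⟩

end Abelian

section Endo

variable {A : Type*} [AddCommGroup A]

theorem end_sum_apply {ι : Type*} (s : Finset ι) (f : ι → AddMonoid.End A) (a : A) :
    (∑ i ∈ s, f i) a = ∑ i ∈ s, f i a :=
  map_sum (AddMonoidHom.mk' (fun g : AddMonoid.End A => g a) fun _ _ => rfl) f s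

theorem end_add_apply (f g : AddMonoid.End A) (a : A) : (f + g) a = f a + g a := rfl

theorem sub_one_pow_mem {p : ℕ} [Fact p.Prime] (hp : 5 ≤ p) (N : AddMonoid.End A)
    (h2 : ∀ a, ∃ b, (N ^ 2) a = p • b) (hper : (1 + N) ^ p = 1) (a : A) :
    ∃ b, p • (N a) = (p * p) • b := by
  have h4 : ∀ i, 4 ≤ i → ∀ a, ∃ b, (N ^ i) a = (p * p) • b := by
    intro i hi a
    obtain ⟨b, hb⟩ := h2 ((N ^ (i - 4)) a)
    obtain ⟨c, hc⟩ := h2 b
    refine ⟨c, ?_⟩
    rw [show i = 2 + (2 + (i - 4)) by omega, pow_add, pow_add]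
    show (N ^ 2) ((N ^ 2) ((N ^ (i - 4)) a)) = _
    rw [hb, map_nsmul, hc, mul_nsmul']
  have hterm : ∀ i ∈ Finset.range (p + 1), i ≠ 1 → i ≠ 0 →
      ∃ b, (N ^ i * (p.choose i : AddMonoid.End A)) a = (p * p) • b := by
    intro i hi h1 h0
    rw [Finset.mem_range] at hi
    rcases Nat.lt_or_ge i p with hlt | hge
    · obtain ⟨c, hc⟩ := (Fact.out : p.Prime).dvd_choose_self h0 hlt
      obtain ⟨b, hb⟩ := h2 ((N ^ (i - 2)) (c • a))
      refine ⟨b, ?_⟩
      show (N ^ i) ((p.choose i : AddMonoid.End A) a) = _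
      rw [AddMonoid.End.natCast_apply, hc, mul_nsmul', map_nsmul,
        show i = 2 + (i - 2) by omega, pow_add]
      show p • (N ^ 2) ((N ^ (i - 2)) (c • a)) = _
      rw [hb, ← mul_nsmul']
    · have hip : i = p := by omega
      subst hip
      obtain ⟨b, hb⟩ := h4 i (by omega) a
      exact ⟨b, by simpa using hb⟩
  have hsum : (∑ i ∈ Finset.range (p + 1), N ^ i * (p.choose i : AddMonoid.End A)) = 1 := by
    rw [← hper, add_comm 1 N, (Commute.one_right N).add_pow]
    simp
  have h := congrArg (fun f : AddMonoid.End A => f a) hsum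
  simp only [end_sum_apply, AddMonoid.End.coe_one, id_eq] at h
  have h1mem : 1 ∈ (Finset.range (p + 1)).erase 0 := by simp; omega
  rw [← Finset.add_sum_erase _ _ (Finset.mem_range.2 (by omega : (0 : ℕ) < p + 1)),
    ← Finset.add_sum_erase _ _ h1mem] at h
  obtain ⟨b, hb⟩ : ∃ b, (∑ i ∈ ((Finset.range (p + 1)).erase 0).erase 1,
      (N ^ i * (p.choose i : AddMonoid.End A)) a) = (p * p) • b := by
    refine Finset.sum_induction _ (fun z => ∃ b, z = (p * p) • b) ?_ ⟨0, by simp⟩ ?_
    · rintro _ _ ⟨b, rfl⟩ ⟨c, rfl⟩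
      exact ⟨b + c, by rw [nsmul_add]⟩
    · intro i hi
      simp only [Finset.mem_erase] at hi
      exact hterm i hi.2.2 hi.1 hi.2.1
  refine ⟨-b, ?_⟩
  rw [hb] at h
  simp only [pow_zero, pow_one, Nat.choose_zero_right, Nat.choose_one_right, Nat.cast_one,
    mul_one, AddMonoid.End.coe_one, id_eq] at h
  rw [add_eq_left] at h
  have h' : N ((p : AddMonoid.End A) a) + (p * p) • b = 0 := h
  rw [AddMonoid.End.natCast_apply, map_nsmul] at h'
  rw [neg_nsmul, eq_neg_iff_add_eq_zero]
  exact h'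

end Endo

variable {Ω : Type*} [Group Ω] {S : Subgroup Ω} {F : FusionSystem S} {H : Subgroup Ω}

theorem isEssential_abelian_rank_two [Finite S] {p : ℕ} [Fact p.Prime] (hS : IsPGroup p S)
    (hess : F.IsEssential p H) (hc : ∀ a b : H, a * b = b * a)
    (hrk : (frattini ↥H).index ≤ p ^ 2) :
    ∃ e : ℕ, Nonempty (↥H ≃* Multiplicative (ZMod (p ^ e) × ZMod (p ^ e))) ∧
      (∀ x : H, x ^ (p ^ e) = 1) ∧ Nat.card H = p ^ (2 * e) ∧ (5 ≤ p → e = 1) ∧ e ≠ 0 := by
  classical
  haveI := finite_of_le hess.1.1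
  have hp : p.Prime := Fact.out
  have hH : IsPGroup p H := hS.to_le hess.1.1
  letI : CommGroup ↥H := { (inferInstance : Group ↥H) with mul_comm := hc }
  have hΦ := frattini_eq_powRange p hH
  obtain ⟨n, hn⟩ := IsPGroup.iff_card.1 hH
  have hex : ∃ e, ∀ x : H, x ^ (p ^ e) = 1 := ⟨n, fun x => by rw [← hn]; exact pow_card_eq_one'⟩
  set e := Nat.find hex with he
  have hexp : ∀ x : H, x ^ (p ^ e) = 1 := Nat.find_spec hex
  have he0 : e ≠ 0 := by
    intro h0
    refine not_isCyclic_of_essential hess ⟨⟨1, fun x => ?_⟩⟩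
    have hx : x = 1 := by simpa [h0] using hexp x
    exact ⟨0, by simp [hx]⟩
  obtain ⟨f, hf⟩ : ∃ f, e = f + 1 := Nat.exists_eq_succ_of_ne_zero he0
  have hpr0 : powRange (H := ↥H) p e = ⊥ := by
    rw [eq_bot_iff]
    rintro _ ⟨x, rfl⟩
    simpa using hexp x
  have hanti : ∀ i, powRange (H := ↥H) p (i + 1) ≤ powRange p i := by
    rintro i _ ⟨x, rfl⟩
    exact ⟨x ^ p, by simp [pow_succ', pow_mul]⟩
  have hantile : ∀ i, 1 ≤ i → powRange (H := ↥H) p i ≤ powRange p 1 := by
    intro i hi
    induction i, hi using Nat.le_induction with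
    | base => exact le_rfl
    | succ i _ ih => exact (hanti i).trans ih
  have hinv : ∀ (α : MulAut ↥H) i, ∀ x ∈ powRange (H := ↥H) p i, α x ∈ powRange p i := by
    rintro α i _ ⟨x, rfl⟩
    exact ⟨α x, by simp⟩
  have hidx_dvd : ∀ (B D : Subgroup ↥H) i, D ≤ B →
      (D.map (powMonoidHom (p ^ i))).relIndex (B.map (powMonoidHom (p ^ i))) ∣ D.relIndex B := by
    intro B D i hDB
    set K := (powMonoidHom (p ^ i) : ↥H →* ↥H).ker
    rw [Subgroup.relIndex_map_map, show B ⊔ K = B ⊔ (D ⊔ K) by rw [← sup_assoc, sup_eq_left.2 hDB],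
      Subgroup.relIndex_sup_right]
    exact Subgroup.relIndex_dvd_of_le_left B le_sup_left
  -- the kernel of the last nontrivial power map
  set B : Subgroup ↥H := (powMonoidHom (p ^ f) : ↥H →* ↥H).ker with hB
  have hB1 : powRange p 1 ≤ B := by
    rintro _ ⟨x, rfl⟩
    rw [hB, MonoidHom.mem_ker]
    simp only [powMonoidHom_apply, ← pow_mul, pow_one]
    rw [← pow_succ', ← hf]
    exact hexp x
  have hBne : B ≠ ⊤ := by
    intro h
    refine Nat.find_min hex (m := f) (by omega) fun x => ?_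
    have hx : x ∈ B := h ▸ Subgroup.mem_top x
    simpa [hB, MonoidHom.mem_ker] using hx
  have hidxΦ : (powRange (H := ↥H) p 1).index ≤ p ^ 2 := hΦ ▸ hrk
  have hBidx_le : B.index ≤ p ^ 2 :=
    (Nat.le_of_dvd (Nat.pos_of_ne_zero Subgroup.index_ne_zero_of_finite)
      (Subgroup.index_dvd_of_le hB1)).trans hidxΦ
  obtain ⟨k, hk⟩ := hH.index B
  have hk1 : k ≠ 0 := fun h0 => hBne (Subgroup.index_eq_one.1 (by rw [hk, h0, pow_zero]))
  have hk2 : k ≤ 2 := (Nat.pow_le_pow_iff_right hp.one_lt).1 (hk ▸ hBidx_le)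
  have hkne : k ≠ 1 := by
    intro hk1'
    have hBp : B.index = p := by rw [hk, hk1', pow_one]
    have hP1B : (powRange p 1).relIndex B ∣ p := by
      have h2 : (powRange p 1).relIndex B * B.index = (powRange (H := ↥H) p 1).index :=
        Subgroup.relIndex_mul_index hB1
      obtain ⟨j, hj⟩ := hH.index (powRange (H := ↥H) p 1)
      rw [hBp, hj] at h2
      rw [hj, Nat.pow_le_pow_iff_right hp.one_lt] at hidxΦ
      have : (powRange (H := ↥H) p 1).relIndex B * p ∣ p * p := by
        rw [h2, ← sq]; exact pow_dvd_pow p hidxΦ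
      exact (Nat.mul_dvd_mul_iff_right hp.pos).1 this
    let C : ℕ → Subgroup ↥H := fun j =>
      if Even j then powRange p (j / 2) else B.map (powMonoidHom (p ^ (j / 2)))
    have hC0 : ∀ i, C (2 * i) = powRange p i := fun i => by simp [C]
    have hC1 : ∀ i, C (2 * i + 1) = B.map (powMonoidHom (p ^ i)) := fun i => by
      simp [C, show (2 * i + 1) / 2 = i by omega]
    refine false_of_chain hS hess C (2 * e) ?_ ?_ ?_ (fun j _ => inferInstance) ?_
    · rw [show (0 : ℕ) = 2 * 0 by rfl, hC0, powRange_zero]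
    · rw [hC0, hpr0]
    · intro α _ j x hx
      rcases Nat.even_or_odd' j with ⟨i, rfl | rfl⟩
      · rw [hC0] at hx ⊢
        exact hinv α i x hx
      · rw [hC1] at hx ⊢
        obtain ⟨b, hb, rfl⟩ := hx
        exact ⟨α b, by rw [hB, SetLike.mem_coe, MonoidHom.mem_ker, powMonoidHom_apply] at hb ⊢
                       rw [← map_pow, hb, map_one], by simp⟩
    · intro j _
      rcases Nat.even_or_odd' j with ⟨i, rfl | rfl⟩
      · rw [hC0, hC1]
        have h := hidx_dvd ⊤ B i le_top
        rw [Subgroup.relIndex_top_right, hBp, ← MonoidHom.range_eq_map] at h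
        exact h
      · rw [show 2 * i + 1 + 1 = 2 * (i + 1) by ring, hC0, hC1, powRange_succ]
        exact (hidx_dvd B _ i hB1).trans hP1B
  have hk' : k = 2 := by omega
  have hcardB : Nat.card (powRange (H := ↥H) p f) = p ^ 2 := by
    rw [powRange, ← Subgroup.index_ker, ← hB, hk, hk']
  have hPB : powRange (H := ↥H) p 1 = B := by
    refine le_antisymm hB1 (Subgroup.relIndex_eq_one.1 ?_)
    have h2 := Subgroup.relIndex_mul_index hB1
    rw [hk, hk'] at h2
    have hle : (powRange p 1).relIndex B * p ^ 2 ≤ 1 * p ^ 2 := by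
      rw [h2, one_mul]; exact hidxΦ
    have hne : (powRange p 1).relIndex B ≠ 0 := fun h0 => by
      rw [h0, zero_mul] at h2
      exact Subgroup.index_ne_zero_of_finite h2.symm
    have := Nat.le_of_mul_le_mul_right hle (pow_pos hp.pos 2)
    omega
  have hΦidx : (frattini ↥H).index = p ^ 2 := by rw [hΦ, hPB, hk, hk']
  have hker1 : Nat.card (powMonoidHom (p ^ 1) : ↥H →* ↥H).ker = p ^ 2 := by
    have h1 := card_powRange_mul (H := ↥H) p 1
    have h2 : Nat.card (powRange (H := ↥H) p 1) * (powRange (H := ↥H) p 1).index = Nat.card ↥H :=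
      Subgroup.card_mul_index _
    rw [← hΦidx, hΦ]
    exact Nat.eq_of_mul_eq_mul_left Nat.card_pos (h1.trans h2.symm)
  -- the socle is the last nontrivial power
  have hsoc : powRange (H := ↥H) p f = (powMonoidHom (p ^ 1) : ↥H →* ↥H).ker := by
    refine Subgroup.eq_of_le_of_card_ge ?_ (by rw [hker1, hcardB])
    rintro _ ⟨x, rfl⟩
    rw [MonoidHom.mem_ker]
    simp only [powMonoidHom_apply, pow_one, ← pow_mul]
    rw [← pow_succ, ← hf]
    exact hexp x
  have hcardi : ∀ i, i ≤ e → Nat.card (powRange (H := ↥H) p (e - i)) = p ^ (2 * i) := by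
    intro i
    induction i with
    | zero => intro; rw [Nat.sub_zero, hpr0]; simp
    | succ i ih =>
      intro hi
      set m := e - (i + 1) with hm
      have hmap : (powRange (H := ↥H) p m).map (powMonoidHom (p ^ 1)) = powRange p (m + 1) := by
        ext x
        constructor
        · rintro ⟨_, ⟨y, rfl⟩, rfl⟩
          exact ⟨y, by simp [pow_succ, pow_mul]⟩
        · rintro ⟨y, rfl⟩
          exact ⟨y ^ (p ^ m), ⟨y, rfl⟩, by simp [pow_succ, pow_mul]⟩
      let φ : powRange (H := ↥H) p m →* ↥H :=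
        (powMonoidHom (p ^ 1)).comp (powRange (H := ↥H) p m).subtype
      have hrange : φ.range = powRange p (m + 1) := by
        rw [← hmap, MonoidHom.range_comp, Subgroup.range_subtype]
      have hle : (powMonoidHom (p ^ 1) : ↥H →* ↥H).ker ≤ powRange p m := by
        rw [← hsoc]
        have : ∀ d, powRange (H := ↥H) p (m + d) ≤ powRange p m := by
          intro d
          induction d with
          | zero => exact le_rfl
          | succ d ih => exact (hanti _).trans ih
        have h3 := this (f - m)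
        rwa [show m + (f - m) = f by omega] at h3
      have hkc : Nat.card φ.ker = p ^ 2 := by
        rw [← hker1]
        exact Nat.card_congr (Subgroup.subgroupOfEquivOfLe hle).toEquiv
      rw [← Subgroup.card_mul_index φ.ker, Subgroup.index_ker, hrange, hkc,
        show m + 1 = e - i by omega, ih (by omega), ← pow_add]
      ring_nf
  have hcard : Nat.card ↥H = p ^ (2 * e) := by
    have h := hcardi e le_rfl
    rwa [Nat.sub_self, powRange_zero, Subgroup.card_top] at h
  refine ⟨e, exists_mulEquiv_homocyclic p hH hexp hΦidx hcard, hexp, hcard, ?_, he0⟩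
  intro hp5
  by_contra he1
  obtain ⟨α, hα1, hαp⟩ : ∃ α : F.autGroup H, α ≠ 1 ∧ α ^ p = 1 := by
    obtain ⟨α, ⟨a, ha⟩, hout⟩ := exists_pElement_not_inn hess
    haveI := finite_autGroup (F := F) hess.1.1
    have hne : α ≠ 1 := fun h => hout (h ▸ Subgroup.one_mem _)
    obtain ⟨j, -, hj⟩ := (Nat.dvd_prime_pow hp).1 (orderOf_dvd_of_pow_eq_one ha)
    have hdvd : p ∣ Nat.card (F.autGroup H) := by
      refine dvd_trans ?_ (orderOf_dvd_natCard α)
      rw [hj]
      refine dvd_pow_self p fun h0 => hne ?_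
      rw [h0, pow_zero, orderOf_eq_one_iff] at hj
      exact hj
    obtain ⟨β, hβ⟩ := exists_prime_orderOf_dvd_card' p hdvd
    refine ⟨β, fun h => ?_, hβ ▸ pow_orderOf_eq_one β⟩
    rw [h, orderOf_one] at hβ
    exact hp.ne_one hβ.symm
  let Kc : ℕ → Subgroup ↥H := fun i => powRange p i
  have hK : stabChain (F.autGroup H) Kc e (fun α _ i => hinv α i) = ⊥ := by
    have h := map_le_Inn hess (stabChain_normal (A := F.autGroup H) (C := Kc) (m := e)
      (hinv := fun α _ i => hinv α i))
      (stabChain_isPGroup hH (powRange_zero p) hpr0)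
    rw [eq_bot_iff]
    intro β hβ
    obtain ⟨g, hg⟩ := h ⟨β, hβ, rfl⟩
    rw [Subgroup.mem_bot]
    refine Subtype.ext (MulEquiv.ext fun x => ?_)
    show (β : MulAut ↥H) x = x
    rw [show (β : MulAut ↥H) = MulAut.conj g from hg.symm]
    simp [hc g x]
  let u : AddMonoid.End (Additive ↥H) := MonoidHom.toAdditive (α : MulAut ↥H).toMonoidHom
  have hu : ∀ x : ↥H, u (Additive.ofMul x) = Additive.ofMul ((α : MulAut ↥H) x) := fun x => rfl
  have hupow : ∀ (k : ℕ) (x : ↥H),
      (u ^ k) (Additive.ofMul x) = Additive.ofMul (((α : MulAut ↥H) ^ k) x) := by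
    intro k
    induction k with
    | zero => intro x; rfl
    | succ k ih =>
      intro x
      rw [pow_succ', pow_succ']
      show u ((u ^ k) (Additive.ofMul x)) = _
      rw [ih, hu]
      rfl
  have hper : (1 + (u - 1)) ^ p = 1 := by
    rw [add_sub_cancel]
    refine AddMonoidHom.ext fun a => ?_
    refine (hupow p a.toMul).trans ?_
    rw [← SubgroupClass.coe_pow, hαp]
    rfl
  let P1 : AddSubgroup (Additive ↥H) := Subgroup.toAddSubgroup (powRange (H := ↥H) p 1)
  have hP1mem : ∀ a : Additive ↥H, a ∈ P1 ↔ ∃ b, a = p • b := by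
    intro a
    constructor
    · rintro ⟨y, hy⟩
      exact ⟨Additive.ofMul y, by
        rw [← ofMul_pow, ← pow_one p]
        exact congrArg Additive.ofMul hy.symm⟩
    · rintro ⟨b, rfl⟩
      exact ⟨b.toMul, by simp [toMul_nsmul]⟩
  set N : AddMonoid.End (Additive ↥H) := u - 1 with hN
  have hNP : ∀ (M : AddMonoid.End (Additive ↥H)), ∀ a ∈ P1, M a ∈ P1 := by
    intro M a ha
    obtain ⟨b, rfl⟩ := (hP1mem a).1 ha
    exact (hP1mem _).2 ⟨M b, map_nsmul M _ _⟩
  have hNp : ∀ a, (N ^ p) a ∈ P1 := by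
    intro a
    have hsum : (∑ i ∈ Finset.range (p + 1), N ^ i * (p.choose i : AddMonoid.End (Additive ↥H))) = 1 := by
      rw [← hper, add_comm 1 (u - 1), (Commute.one_right (u - 1)).add_pow]
      simp [hN]
    have h := congrArg (fun g : AddMonoid.End (Additive ↥H) => g a) hsum
    simp only [end_sum_apply, AddMonoid.End.coe_one, id_eq] at h
    rw [Finset.sum_range_succ, Finset.range_eq_Ico, Finset.sum_eq_sum_Ico_succ_bot hp.pos] at h
    simp only [pow_zero, Nat.choose_zero_right, Nat.choose_self, Nat.cast_one, mul_one,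
      AddMonoid.End.coe_one, id_eq] at h
    rw [add_assoc, add_eq_left, add_comm, ← eq_neg_iff_add_eq_zero] at h
    rw [h]
    refine P1.neg_mem (P1.sum_mem fun i hi => ?_)
    rw [Finset.mem_Ico] at hi
    obtain ⟨c, hc'⟩ := hp.dvd_choose_self (show i ≠ 0 by omega) hi.2
    refine (hP1mem _).2 ⟨(N ^ i) (c • a), ?_⟩
    show (N ^ i) ((p.choose i : AddMonoid.End (Additive ↥H)) a) = _
    rw [AddMonoid.End.natCast_apply, hc', mul_nsmul', map_nsmul]
  -- images of the powers of `N` modulo the Frattini subgroup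
  let img : ℕ → AddSubgroup (Additive ↥H) := fun i => (N ^ i).range ⊔ P1
  have himg_anti : ∀ i, img (i + 1) ≤ img i := by
    intro i
    refine sup_le_sup_right ?_ _
    rintro _ ⟨a, rfl⟩
    exact ⟨N a, by rw [pow_succ]; rfl⟩
  have himg_const : ∀ i, img (i + 1) = img i → img i = P1 := by
    intro i hi
    have hall : ∀ d, img (i + d) = img i := by
      intro d
      induction d with
      | zero => rfl
      | succ d ih =>
        refine le_antisymm ((himg_anti _).trans ih.le) ?_
        rw [← hi]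
        refine sup_le ?_ le_sup_right
        rintro _ ⟨a, rfl⟩
        have hx : (N ^ i) a ∈ img (i + d) := ih ▸ AddSubgroup.mem_sup_left ⟨a, rfl⟩
        obtain ⟨_, ⟨b, rfl⟩, c, hc', hbc⟩ := AddSubgroup.mem_sup.1 hx
        rw [pow_succ']
        show N ((N ^ i) a) ∈ _
        rw [← hbc, map_add]
        exact AddSubgroup.add_mem _ (AddSubgroup.mem_sup_left
          ⟨b, by rw [show i + (d + 1) = i + d + 1 from rfl, pow_succ' N (i + d)]; rfl⟩)
          (AddSubgroup.mem_sup_right (hNP _ c hc'))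
    refine le_antisymm ?_ le_sup_right
    rw [← hall p]
    refine sup_le ?_ le_rfl
    rintro _ ⟨a, rfl⟩
    rw [add_comm i p, pow_add]
    exact hNp _
  have hNsq : ∀ a, (N ^ 2) a ∈ P1 := by
    by_contra hcon
    push Not at hcon
    obtain ⟨a, ha⟩ := hcon
    have hne2 : img 2 ≠ P1 := fun h => ha (h ▸ AddSubgroup.mem_sup_left ⟨a, rfl⟩)
    have h01 : img 1 < img 0 := lt_of_le_of_ne (himg_anti 0) fun h => by
      have h0 : img 0 = P1 := himg_const 0 h
      exact hne2 (le_antisymm (((himg_anti 1).trans (himg_anti 0)).trans h0.le) le_sup_right)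
    have h12 : img 2 < img 1 := lt_of_le_of_ne (himg_anti 1) fun h => by
      have h1 : img 1 = P1 := himg_const 1 h
      exact hne2 (le_antisymm ((himg_anti 1).trans h1.le) le_sup_right)
    have h2P : P1 < img 2 := lt_of_le_of_ne le_sup_right (Ne.symm hne2)
    have key : ∀ U V : AddSubgroup (Additive ↥H), U < V → U.index ≠ 0 → p * V.index ≤ U.index := by
      intro U V hUV _
      obtain ⟨j, hj⟩ := hH.index (AddSubgroup.toSubgroup' U)
      have hUi : U.index = p ^ j := by rw [← hj]; rfl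
      have hm := AddSubgroup.relIndex_mul_index hUV.le
      have hdv : U.relIndex V ∣ p ^ j := hUi ▸ Dvd.intro _ hm
      obtain ⟨l, -, hl⟩ := (Nat.dvd_prime_pow hp).1 hdv
      have hl0 : l ≠ 0 := fun h0 => hUV.not_ge (AddSubgroup.relIndex_eq_one.1 (by rw [hl, h0, pow_zero]))
      rw [← hm, hl]
      exact Nat.mul_le_mul_right _ (Nat.le_self_pow hl0 p)
    have hP1i : P1.index = p ^ 2 := by
      rw [← hk', ← hk, ← hPB]; rfl
    have a1 := key _ _ h2P AddSubgroup.index_ne_zero_of_finite
    have a2 := key _ _ h12 AddSubgroup.index_ne_zero_of_finite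
    have a3 := key _ _ h01 AddSubgroup.index_ne_zero_of_finite
    have a4 : 1 ≤ (img 0).index := Nat.pos_of_ne_zero AddSubgroup.index_ne_zero_of_finite
    rw [hP1i] at a1
    have : p * (p * (p * 1)) ≤ p ^ 2 := le_trans (Nat.mul_le_mul le_rfl (le_trans
      (Nat.mul_le_mul le_rfl (le_trans (Nat.mul_le_mul le_rfl a4) a3)) a2)) a1
    nlinarith [hp.two_le]
  have hNmem : ∀ a, N a ∈ P1 := by
    intro a
    obtain ⟨b, hb⟩ := sub_one_pow_mem hp5 N (fun a => (hP1mem _).1 (hNsq a))
      (by rw [hN]; exact hper) a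
    have h0 : p • (N a - p • b) = 0 := by
      rw [nsmul_sub, hb, ← mul_nsmul', sub_self]
    have hker : (N a - p • b).toMul ∈ (powMonoidHom (p ^ 1) : ↥H →* ↥H).ker := by
      rw [MonoidHom.mem_ker, powMonoidHom_apply, pow_one, ← toMul_nsmul, h0]
      rfl
    rw [← hsoc] at hker
    have hmem : N a - p • b ∈ P1 := hantile f (by omega) hker
    have := P1.add_mem hmem ((hP1mem _).2 ⟨b, rfl⟩)
    rwa [sub_add_cancel] at this
  have hαK : α ∈ stabChain (F.autGroup H) Kc e (fun α _ i => hinv α i) := by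
    intro i _ x hx
    obtain ⟨y, rfl⟩ := hx
    have h1 : y⁻¹ * (α : MulAut ↥H) y ∈ powRange (H := ↥H) p 1 := by
      rw [mul_comm, ← div_eq_mul_inv]
      exact hNmem (Additive.ofMul y)
    obtain ⟨z, hz⟩ := h1
    refine ⟨z, ?_⟩
    simp only [powMonoidHom_apply, pow_one] at hz ⊢
    rw [pow_succ', pow_mul, hz, map_pow, mul_pow, inv_pow]
  rw [hK, Subgroup.mem_bot] at hαK
  exact hα1 hαK

end CfsgLib.FusionEssential
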