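import Mathlib.GroupTheory.Commutator.Basic
import Mathlib.Data.Nat.Choose.Dvd
import Mathlib.GroupTheory.OrderOfElement
import Mathlib.Algebra.Group.Subgroup.Ker
import Mathlib.GroupTheory.Subgroup.Center
import Mathlib.Tactic.Group

/-!
# The `p`-th power map in groups of class two whose commutators have order dividing `p` (`p` odd)
-/

set_option autoImplicit false

namespace CfsgLib.FusionEssential

open scoped commutatorElement

theorem mul_pow_of_central_commutator {G : Type*} [Group G] {x y z : G} (hyx : y * x = x * y * z)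
    (hz : z ∈ Subgroup.center G) (k : ℕ) :
    (x * y) ^ k = x ^ k * y ^ k * z ^ (k.choose 2) := by
  have hc : ∀ (j : ℕ) (g : G), z ^ j * g = g * z ^ j := fun j g =>
    (Subgroup.mem_center_iff.1 (Subgroup.pow_mem _ hz j) g).symm
  have hyk : ∀ j : ℕ, y ^ j * x = x * y ^ j * z ^ j := by
    intro j
    induction j with
    | zero => simp
    | succ j ih =>
      calc y ^ (j + 1) * x = y ^ j * x * (y * z) := by
            rw [pow_succ, mul_assoc, hyx]; simp only [mul_assoc]
        _ = x * y ^ j * (z ^ j * y) * z := by rw [ih]; simp only [mul_assoc]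
        _ = x * y ^ (j + 1) * z ^ (j + 1) := by
            rw [hc j y, pow_succ, pow_succ z]; simp only [mul_assoc]
  induction k with
  | zero => simp
  | succ k ih =>
    rw [pow_succ (x * y), ih]
    have hch : (k + 1).choose 2 = k + k.choose 2 := by
      rw [Nat.choose_succ_succ', Nat.choose_one_right]
    calc x ^ k * y ^ k * z ^ k.choose 2 * (x * y)
        = x ^ k * (y ^ k * x) * y * z ^ k.choose 2 := by
          rw [mul_assoc _ (z ^ k.choose 2), hc _ (x * y)]
          simp only [mul_assoc]
      _ = x ^ k * x * (y ^ k * (z ^ k * y)) * z ^ k.choose 2 := by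
          rw [hyk]; simp only [mul_assoc]
      _ = x ^ (k + 1) * y ^ (k + 1) * z ^ (k + 1).choose 2 := by
          rw [hc k y, hch, pow_add z, pow_succ x, pow_succ y]; simp only [mul_assoc]

/-- The `p`-th power homomorphism. -/
def pPowHom {G : Type*} [Group G] {p : ℕ} [hp : Fact p.Prime] (hp2 : p ≠ 2)
    (hc : ∀ x y : G, ⁅x, y⁆ ∈ Subgroup.center G) (he : ∀ x y : G, ⁅x, y⁆ ^ p = 1) : G →* G where
  toFun x := x ^ p
  map_one' := one_pow p
  map_mul' x y := by
    have hyx : y * x = x * y * ⁅y⁻¹, x⁻¹⁆ := by rw [commutatorElement_def]; group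
    rw [mul_pow_of_central_commutator hyx (hc _ _) p]
    obtain ⟨m, hm⟩ := hp.1.dvd_choose_self (k := 2) (by norm_num)
      (lt_of_le_of_ne hp.1.two_le (Ne.symm hp2))
    rw [hm, pow_mul, he, one_pow, mul_one]

@[simp] theorem pPowHom_apply {G : Type*} [Group G] {p : ℕ} [Fact p.Prime] (hp2 : p ≠ 2)
    (hc : ∀ x y : G, ⁅x, y⁆ ∈ Subgroup.center G) (he : ∀ x y : G, ⁅x, y⁆ ^ p = 1) (x : G) :
    pPowHom hp2 hc he x = x ^ p := rfl

end CfsgLib.FusionEssential
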