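import Mathlib.LinearAlgebra.Matrix.GeneralLinearGroup.Defs
import Mathlib.LinearAlgebra.Matrix.SpecialLinearGroup
import Mathlib.LinearAlgebra.Matrix.NonsingularInverse
import Mathlib.LinearAlgebra.Matrix.ToLinearEquiv
import Mathlib.Algebra.Field.ZMod
import Mathlib.Algebra.CharP.Lemmas
import Mathlib.LinearAlgebra.Matrix.CharP
import Mathlib.GroupTheory.PGroup
import Mathlib.Tactic.FinCases
import Mathlib.Tactic.LinearCombination
import Mathlib.Tactic.FieldSimp

/-!
# Subgroups of `GL₂(p)` with two non-commuting elements of order `p` contain a conjugate of `SL₂(p)`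
-/

set_option autoImplicit false

namespace CfsgLib.FusionEssential

open Matrix

variable {p : ℕ} [hp : Fact p.Prime]

/-- The upper elementary matrix. -/
def upperM (t : ZMod p) : Matrix.SpecialLinearGroup (Fin 2) (ZMod p) :=
  ⟨!![1, t; 0, 1], by simp [Matrix.det_fin_two]⟩

/-- The lower elementary matrix. -/
def lowerM (t : ZMod p) : Matrix.SpecialLinearGroup (Fin 2) (ZMod p) :=
  ⟨!![1, 0; t, 1], by simp [Matrix.det_fin_two]⟩

theorem coe_upperM (t : ZMod p) :
    (upperM t : Matrix (Fin 2) (Fin 2) (ZMod p)) = !![1, t; 0, 1] := rfl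

theorem coe_lowerM (t : ZMod p) :
    (lowerM t : Matrix (Fin 2) (Fin 2) (ZMod p)) = !![1, 0; t, 1] := rfl

theorem upperM_pow (t : ZMod p) (k : ℕ) : upperM t ^ k = upperM ((k : ZMod p) * t) := by
  induction k with
  | zero => apply Subtype.ext; simp [coe_upperM, Matrix.one_fin_two]
  | succ k ih =>
    rw [pow_succ, ih]
    apply Subtype.ext
    show !![1, (k : ZMod p) * t; 0, 1] * !![1, t; 0, 1] = !![1, ((k + 1 : ℕ) : ZMod p) * t; 0, 1]
    simp [add_mul, add_comm]

theorem lowerM_pow (t : ZMod p) (k : ℕ) : lowerM t ^ k = lowerM ((k : ZMod p) * t) := by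
  induction k with
  | zero => apply Subtype.ext; simp [coe_lowerM, Matrix.one_fin_two]
  | succ k ih =>
    rw [pow_succ, ih]
    apply Subtype.ext
    show !![1, 0; (k : ZMod p) * t, 1] * !![1, 0; t, 1] = !![1, 0; ((k + 1 : ℕ) : ZMod p) * t, 1]
    simp [add_mul, add_comm]

theorem sl_two_le_of_upper_lower {K : Subgroup (Matrix.SpecialLinearGroup (Fin 2) (ZMod p))}
    {t : ZMod p} (ht : t ≠ 0) (hu : upperM 1 ∈ K) (hl : lowerM t ∈ K) : K = ⊤ := by
  have hU : ∀ s, upperM s ∈ K := fun s => by
    have h := K.pow_mem hu s.val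
    simpa [upperM_pow] using h
  have hL : ∀ s, lowerM s ∈ K := fun s => by
    have h := K.pow_mem hl (s * t⁻¹).val
    simpa [lowerM_pow, mul_assoc, inv_mul_cancel₀ ht] using h
  have key : ∀ M : Matrix.SpecialLinearGroup (Fin 2) (ZMod p), M.1 1 0 ≠ 0 → M ∈ K := by
    intro M hc
    have hdet : M.1 0 0 * M.1 1 1 - M.1 0 1 * M.1 1 0 = 1 := by
      rw [← Matrix.det_fin_two]; exact M.2
    have e : M = upperM ((M.1 0 0 - 1) / M.1 1 0) * lowerM (M.1 1 0) *
        upperM ((M.1 1 1 - 1) / M.1 1 0) := by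
      ext i j
      fin_cases i <;> fin_cases j <;>
        simp [coe_upperM, coe_lowerM, Matrix.mul_apply, Fin.sum_univ_two, hc] <;>
        field_simp <;>
        first
        | ring1
        | linear_combination hdet
        | linear_combination (-1 : ZMod p) * hdet
    rw [e]
    exact K.mul_mem (K.mul_mem (hU _) (hL _)) (hU _)
  refine (Subgroup.eq_top_iff' K).2 fun M => ?_
  by_cases hc : M.1 1 0 = 0
  · have hdet : M.1 0 0 * M.1 1 1 - M.1 0 1 * M.1 1 0 = 1 := by
      rw [← Matrix.det_fin_two]; exact M.2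
    have ha : M.1 0 0 ≠ 0 := fun h => by simp [h, hc] at hdet
    have h := key (lowerM 1 * M) (by simp [coe_lowerM, Matrix.mul_apply, Fin.sum_univ_two, hc, ha])
    exact (K.mul_mem_cancel_left (hL 1)).1 h
  · exact key M hc

theorem sq_zero_of_nilpotent {N : Matrix (Fin 2) (Fin 2) (ZMod p)} {m : ℕ} (h : N ^ m = 0) :
    N * N = 0 ∧ N 0 0 + N 1 1 = 0 := by
  have hdet : N.det = 0 := by
    by_contra hne
    exact pow_ne_zero m hne (by rw [← Matrix.det_pow, h, Matrix.det_zero])
  rw [Matrix.det_fin_two] at hdet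
  have hNN : N * N = (N 0 0 + N 1 1) • N := by
    ext i j
    fin_cases i <;> fin_cases j <;> simp [Matrix.mul_apply, Fin.sum_univ_two]
    · linear_combination (-1 : ZMod p) * hdet
    · ring
    · ring
    · linear_combination (-1 : ZMod p) * hdet
  by_cases ht : N 0 0 + N 1 1 = 0
  · exact ⟨by rw [hNN, ht, zero_smul], ht⟩
  · have hpow : ∀ k, N ^ (k + 1) = (N 0 0 + N 1 1) ^ k • N := by
      intro k
      induction k with
      | zero => simp
      | succ k ih => rw [pow_succ, ih, smul_mul_assoc, hNN, smul_smul, ← pow_succ]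
    have h0 : N = 0 := by
      have h1 := hpow m
      rw [pow_succ, h, zero_mul, eq_comm, smul_eq_zero] at h1
      exact h1.resolve_left (pow_ne_zero _ ht)
    simp [h0] at ht

theorem exists_sl_two_le (A : Subgroup (GL (Fin 2) (ZMod p))) {u w : GL (Fin 2) (ZMod p)}
    (hu : u ∈ A) (hw : w ∈ A) {a b : ℕ} (hup : u ^ (p ^ a) = 1) (hwp : w ^ (p ^ b) = 1)
    (hne : u * w ≠ w * u) :
    ∃ g : GL (Fin 2) (ZMod p), ∀ M : Matrix.SpecialLinearGroup (Fin 2) (ZMod p),
      g * Matrix.SpecialLinearGroup.toGL M * g⁻¹ ∈ A := by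
  have hnil : ∀ (x : GL (Fin 2) (ZMod p)) (c : ℕ), x ^ (p ^ c) = 1 →
      ((x : Matrix (Fin 2) (Fin 2) (ZMod p)) - 1) ^ (p ^ c) = 0 := fun x c hx => by
    rw [sub_pow_char_pow_of_commute p c (Commute.one_right _), one_pow, ← Units.val_pow_eq_pow_val,
      hx, Units.val_one, sub_self]
  obtain ⟨hNN, hNt⟩ := sq_zero_of_nilpotent (hnil u a hup)
  obtain ⟨hMM, hMt⟩ := sq_zero_of_nilpotent (hnil w b hwp)
  set N : Matrix (Fin 2) (Fin 2) (ZMod p) := (u : Matrix (Fin 2) (Fin 2) (ZMod p)) - 1 with hN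
  set M : Matrix (Fin 2) (Fin 2) (ZMod p) := (w : Matrix (Fin 2) (Fin 2) (ZMod p)) - 1 with hM
  set t : ZMod p := (M * N) 0 0 + (M * N) 1 1 with ht
  have hpol : M * N + N * M = t • 1 := by
    ext i j
    fin_cases i <;> fin_cases j <;> simp [Matrix.mul_apply, Fin.sum_univ_two, ht]
    · linear_combination (N 0 0) * hMt - (M 1 1) * hNt
    · linear_combination (N 0 1) * hMt + (M 0 1) * hNt
    · linear_combination (N 1 0) * hMt + (M 1 0) * hNt
    · linear_combination (M 1 1) * hNt - (N 0 0) * hMt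
  have hMNM : M * N * M = t • M := by
    have h := congrArg (· * M) hpol
    simpa [add_mul, mul_assoc, hMM] using h
  have hNM : N * M ≠ 0 := by
    intro h
    apply hne
    have e00 := congrFun (congrFun h 0) 0
    have e01 := congrFun (congrFun h 0) 1
    have e10 := congrFun (congrFun h 1) 0
    have e11 := congrFun (congrFun h 1) 1
    simp only [Matrix.mul_apply, Fin.sum_univ_two, Matrix.zero_apply] at e00 e01 e10 e11
    have hMN : M * N = 0 := by
      have hN11 : N 1 1 = -N 0 0 := by linear_combination hNt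
      have hM11 : M 1 1 = -M 0 0 := by linear_combination hMt
      rw [hM11] at e01 e11
      rw [hN11] at e10 e11
      ext i j
      fin_cases i <;> fin_cases j <;> simp [Matrix.mul_apply, Fin.sum_univ_two, hN11, hM11]
      · linear_combination e11
      · linear_combination -e01
      · linear_combination -e10
      · linear_combination e00
    apply Units.ext
    simp only [Units.val_mul]
    have hu' : (u : Matrix (Fin 2) (Fin 2) (ZMod p)) = 1 + N := by rw [hN]; abel
    have hw' : (w : Matrix (Fin 2) (Fin 2) (ZMod p)) = 1 + M := by rw [hM]; abel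
    rw [hu', hw']
    simp only [add_mul, mul_add, one_mul, mul_one, h, hMN]
    abel
  obtain ⟨i₀, j, hij⟩ : ∃ i j, (N * M) i j ≠ 0 := by
    by_contra hc
    push Not at hc
    exact hNM (Matrix.ext hc)
  let G : Matrix (Fin 2) (Fin 2) (ZMod p) :=
    Matrix.of fun i k => if k = 0 then (N * M) i j else M i j
  have hG0 : ∀ i, G i 0 = (N * M) i j := fun i => rfl
  have hG1 : ∀ i, G i 1 = M i j := fun i => rfl
  have hcolN : ∀ i, (N * G) i 0 = 0 ∧ (N * G) i 1 = G i 0 := by
    intro i
    constructor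
    · have h := congrFun (congrFun (show N * (N * M) = 0 by rw [← mul_assoc, hNN, zero_mul]) i) j
      simpa [Matrix.mul_apply, Fin.sum_univ_two, hG0] using h
    · simp [Matrix.mul_apply, Fin.sum_univ_two, hG0, hG1]
  have hcolM : ∀ i, (M * G) i 0 = t * G i 1 ∧ (M * G) i 1 = 0 := by
    intro i
    constructor
    · have h := congrFun (congrFun (show M * (N * M) = t • M by rw [← mul_assoc, hMNM]) i) j
      simpa [Matrix.mul_apply, Fin.sum_univ_two, hG0, hG1] using h
    · have h := congrFun (congrFun hMM i) j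
      simpa [Matrix.mul_apply, Fin.sum_univ_two, hG1] using h
  have hdet : G.det ≠ 0 := by
    intro hd
    obtain ⟨v, hv, hGv⟩ := Matrix.exists_mulVec_eq_zero_iff.2 hd
    have e : ∀ i, G i 0 * v 0 + G i 1 * v 1 = 0 := fun i => by
      simpa [Matrix.mulVec, dotProduct, Fin.sum_univ_two] using congrFun hGv i
    have e2 : G i₀ 0 * v 1 = 0 := by
      have h0 := (hcolN i₀).1
      have h1 := (hcolN i₀).2
      simp only [Matrix.mul_apply, Fin.sum_univ_two] at h0 h1
      linear_combination (N i₀ 0) * e 0 + (N i₀ 1) * e 1 - (v 0) * h0 - (v 1) * h1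
    have hv1 : v 1 = 0 := (mul_eq_zero.1 e2).resolve_left hij
    have e3 : G i₀ 0 * v 0 = 0 := by simpa [hv1] using e i₀
    have hv0 : v 0 = 0 := (mul_eq_zero.1 e3).resolve_left hij
    exact hv (funext fun i => by fin_cases i <;> assumption)
  have ht0 : t ≠ 0 := by
    intro h0
    have hMG : M * G = 0 := by
      ext i k
      fin_cases k
      · simpa [h0] using (hcolM i).1
      · simpa using (hcolM i).2
    have hM0 : M = 0 := by
      have h := congrArg (· * G⁻¹) hMG
      simpa [mul_assoc, Matrix.mul_nonsing_inv G (isUnit_iff_ne_zero.2 hdet)] using h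
    exact hNM (by rw [hM0, mul_zero])
  let g : GL (Fin 2) (ZMod p) := Matrix.GeneralLinearGroup.mkOfDetNeZero G hdet
  refine ⟨g, ?_⟩
  have hKtop := sl_two_le_of_upper_lower (K := A.comap
    ((MulAut.conj g).toMonoidHom.comp Matrix.SpecialLinearGroup.toGL)) ht0 ?_ ?_
  · intro M'
    exact (Subgroup.eq_top_iff' _).1 hKtop M'
  · suffices h : g * Matrix.SpecialLinearGroup.toGL (upperM 1) * g⁻¹ = u by
      show g * Matrix.SpecialLinearGroup.toGL (upperM 1) * g⁻¹ ∈ A
      rwa [h]
    rw [mul_inv_eq_iff_eq_mul]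
    refine Units.ext ?_
    show G * !![1, 1; 0, 1] = (u : Matrix (Fin 2) (Fin 2) (ZMod p)) * G
    rw [show (u : Matrix (Fin 2) (Fin 2) (ZMod p)) = 1 + N by rw [hN]; abel, add_mul, one_mul]
    ext i k
    fin_cases k
    · simp [Matrix.mul_apply, Fin.sum_univ_two]
      simpa [Matrix.mul_apply, Fin.sum_univ_two] using (hcolN i).1
    · simp [Matrix.mul_apply, Fin.sum_univ_two]
      have h := (hcolN i).2
      simp only [Matrix.mul_apply, Fin.sum_univ_two] at h
      rw [h]; ring
  · suffices h : g * Matrix.SpecialLinearGroup.toGL (lowerM t) * g⁻¹ = w by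
      show g * Matrix.SpecialLinearGroup.toGL (lowerM t) * g⁻¹ ∈ A
      rwa [h]
    rw [mul_inv_eq_iff_eq_mul]
    refine Units.ext ?_
    show G * !![1, 0; t, 1] = (w : Matrix (Fin 2) (Fin 2) (ZMod p)) * G
    rw [show (w : Matrix (Fin 2) (Fin 2) (ZMod p)) = 1 + M by rw [hM]; abel, add_mul, one_mul]
    ext i k
    fin_cases k
    · simp [Matrix.mul_apply, Fin.sum_univ_two]
      have h := (hcolM i).1
      simp only [Matrix.mul_apply, Fin.sum_univ_two] at h
      rw [h]; ring
    · simp [Matrix.mul_apply, Fin.sum_univ_two]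
      simpa [Matrix.mul_apply, Fin.sum_univ_two] using (hcolM i).2

end CfsgLib.FusionEssential
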