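import Cfsg.Agent.FusionEssential.Basic
import Mathlib.LinearAlgebra.Matrix.ToLin
import Mathlib.LinearAlgebra.Dimension.Finrank
import Mathlib.LinearAlgebra.FiniteDimensional.Basic
import Mathlib.LinearAlgebra.Matrix.GeneralLinearGroup.Defs
import Mathlib.Algebra.Module.ZMod
import Mathlib.Algebra.Field.ZMod
import Mathlib.GroupTheory.SpecificGroups.Cyclic

/-!
# Automorphism groups of cyclic and of small elementary abelian groups; commuting `p`-elements
-/

set_option autoImplicit false
set_option linter.style.haveILetI false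

namespace CfsgLib.FusionEssential

open Cfsg Cfsg.FusionSystem CfsgLib.Fusion

theorem mulAut_commute_of_isCyclic {H : Type*} [Group H] [IsCyclic H] (α β : MulAut H) :
    α * β = β * α := by
  obtain ⟨g, hg⟩ := IsCyclic.exists_generator (α := H)
  refine MulEquiv.ext fun x => ?_
  obtain ⟨a, rfl⟩ := hg x
  obtain ⟨m, hm⟩ := hg (α g)
  obtain ⟨n, hn⟩ := hg (β g)
  simp only [MulAut.mul_apply, map_zpow]
  congr 1
  show α (β g) = β (α g)
  rw [← hn, map_zpow, ← hm, map_zpow, ← hn, ← zpow_mul, ← zpow_mul, mul_comm]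

theorem exists_addEquiv_fin_of_elementary {p : ℕ} [Fact p.Prime] {V : Type*} [AddCommGroup V]
    [Module (ZMod p) V] [Finite V] {d : ℕ} (hd : Nat.card V = p ^ d) :
    Nonempty (V ≃+ (Fin d → ZMod p)) := by
  haveI : Module.Finite (ZMod p) V := Module.Finite.of_finite
  haveI : Module.Free (ZMod p) V := inferInstance
  have hdim : Module.finrank (ZMod p) V = d := by
    have h := Module.natCard_eq_pow_finrank (K := ZMod p) (V := V)
    rw [hd, Nat.card_zmod] at h
    exact (Nat.pow_right_injective (Fact.out : p.Prime).two_le h).symm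
  exact ⟨(Module.finBasisOfFinrankEq (ZMod p) V hdim).equivFun.toAddEquiv⟩

theorem exists_mulEquiv_fin_of_elementary {p : ℕ} [Fact p.Prime] {H : Type*} [Group H] [Finite H]
    (hc : ∀ a b : H, a * b = b * a) (hexp : ∀ x : H, x ^ p = 1) {d : ℕ} (hd : Nat.card H = p ^ d) :
    Nonempty (H ≃* Multiplicative (Fin d → ZMod p)) := by
  letI : CommGroup H := { (inferInstance : Group H) with mul_comm := hc }
  letI : AddCommGroup (Additive H) := Additive.addCommGroup
  letI : Module (ZMod p) (Additive H) := AddCommGroup.zmodModule (fun x => hexp x.toMul)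
  haveI : Finite (Additive H) := Finite.of_equiv H Additive.ofMul
  obtain ⟨e⟩ := exists_addEquiv_fin_of_elementary (p := p) (V := Additive H) (d := d)
    (by rw [Nat.card_congr (Additive.toMul : Additive H ≃ H), hd])
  exact ⟨AddEquiv.toMultiplicativeRight e⟩

section Matrix

variable {p : ℕ} {d : ℕ} {H : Type*} [Group H] (f : H ≃* Multiplicative (Fin d → ZMod p))

/-- The matrix of an automorphism of an elementary abelian group in given coordinates. -/
def autMatrix : MulAut H →* Matrix (Fin d) (Fin d) (ZMod p) where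
  toFun α := LinearMap.toMatrix'
    ((AddMonoidHom.mk' (fun v => (f (α (f.symm (Multiplicative.ofAdd v)))).toAdd)
        (fun v w => by simp) : (Fin d → ZMod p) →+ (Fin d → ZMod p)).toZModLinearMap p)
  map_one' := by
    rw [← LinearMap.toMatrix'_id]
    congr 1
    ext v i
    simp
  map_mul' α β := by
    rw [← LinearMap.toMatrix'_mul]
    congr 1
    refine LinearMap.ext fun v => ?_
    simp

theorem autMatrix_mulVec (α : MulAut H) (v : Fin d → ZMod p) :
    (autMatrix f α).mulVec v = (f (α (f.symm (Multiplicative.ofAdd v)))).toAdd := by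
  rw [← Matrix.toLin'_apply]
  simp [autMatrix]

theorem autMatrix_injective : Function.Injective (autMatrix f) := by
  intro α β h
  refine MulEquiv.ext fun x => ?_
  have h1 := congrArg (fun M => M.mulVec (f x).toAdd) h
  simp only [autMatrix_mulVec, ofAdd_toAdd, MulEquiv.symm_apply_apply] at h1
  exact f.injective (Multiplicative.toAdd.injective h1)

theorem exists_autMatrix_eq (g : GL (Fin d) (ZMod p)) :
    ∃ α : MulAut H, autMatrix f α = (g : Matrix (Fin d) (Fin d) (ZMod p)) := by
  let G : Matrix (Fin d) (Fin d) (ZMod p) := g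
  let G' : Matrix (Fin d) (Fin d) (ZMod p) := (g⁻¹ : GL (Fin d) (ZMod p))
  have h1 : G' * G = 1 := g.inv_mul
  have h2 : G * G' = 1 := g.mul_inv
  let e : (Fin d → ZMod p) ≃+ (Fin d → ZMod p) :=
    { toFun := G.mulVec
      invFun := G'.mulVec
      left_inv := fun v => by simp [Matrix.mulVec_mulVec, h1]
      right_inv := fun v => by simp [Matrix.mulVec_mulVec, h2]
      map_add' := G.mulVec_add }
  refine ⟨f.trans ((AddEquiv.toMultiplicative e).trans f.symm), ?_⟩
  refine Matrix.ext_of_mulVec_single fun i => ?_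
  rw [autMatrix_mulVec]
  simp [e, G]

end Matrix

variable {Ω : Type*} [Group Ω] {S : Subgroup Ω} {F : FusionSystem S} {H : Subgroup Ω}

/-- For essential `H`, `Aut_F(H)` has two non-commuting elements of `p`-power order. -/
theorem exists_noncommute_pElements [Finite S] {p : ℕ} [Fact p.Prime] (hess : F.IsEssential p H) :
    ∃ α β : F.autGroup H, (∃ a : ℕ, α ^ (p ^ a) = 1) ∧ (∃ b : ℕ, β ^ (p ^ b) = 1) ∧
      α * β ≠ β * α := by
  by_contra hc
  push Not at hc
  have hcomm : ∀ α β : F.autGroup H, (∃ a : ℕ, α ^ (p ^ a) = 1) → (∃ b : ℕ, β ^ (p ^ b) = 1) →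
      Commute α β := fun α β ha hb => hc α β ha hb
  let K : Subgroup (F.autGroup H) :=
    { carrier := {α | ∃ a : ℕ, α ^ (p ^ a) = 1}
      one_mem' := ⟨0, by simp⟩
      mul_mem' := by
        rintro α β ⟨a, ha⟩ ⟨b, hb⟩
        refine ⟨a + b, ?_⟩
        rw [(hcomm α β ⟨a, ha⟩ ⟨b, hb⟩).mul_pow, pow_add]
        rw [pow_mul, ha, one_pow, one_mul, mul_comm, pow_mul, hb, one_pow]
      inv_mem' := by
        rintro α ⟨a, ha⟩
        exact ⟨a, by rw [inv_pow, ha, inv_one]⟩ }
  have hK : K.Normal := ⟨fun α ⟨a, ha⟩ g => ⟨a, by rw [conj_pow, ha, mul_one, mul_inv_cancel]⟩⟩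
  have hKp : IsPGroup p K := fun ⟨α, a, ha⟩ => ⟨a, Subtype.ext ha⟩
  obtain ⟨α, hα, hout⟩ := exists_pElement_not_inn hess
  exact hout (map_le_Inn hess hK hKp ⟨α, hα, rfl⟩)

theorem not_isCyclic_of_essential [Finite S] {p : ℕ} [Fact p.Prime] (hess : F.IsEssential p H) :
    ¬ IsCyclic H := by
  intro hcyc
  obtain ⟨α, β, -, -, hne⟩ := exists_noncommute_pElements hess
  exact hne (Subtype.ext (mulAut_commute_of_isCyclic (H := H) α β))

end CfsgLib.FusionEssential
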