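import Cfsg.Agent.Fusion.Basic
import Mathlib.GroupTheory.PGroup
import Mathlib.GroupTheory.Sylow
import Mathlib.Data.ZMod.Basic

/-!
# Automorphisms stabilising a chain of subgroups, and essential subgroups

* `stabChain`: the normal subgroup of a group `A` of automorphisms of `H` of those stabilising
  an `A`-invariant chain; it is a `p`-group when `H` is a finite `p`-group.
* `IsEssential` consequences: every normal `p`-subgroup of `Aut_F(H)` is inner, some element of
  `p`-power order is outer, and so no invariant chain of `H` has all factors of order `p`.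
-/

set_option autoImplicit false

namespace CfsgLib.FusionEssential

open Cfsg

section Chain

variable {H : Type*} [Group H] (A : Subgroup (MulAut H)) (C : ℕ → Subgroup H) (m : ℕ)
  (hinv : ∀ α ∈ A, ∀ i, ∀ x ∈ C i, α x ∈ C i)

include hinv in
/-- The elements of `A` acting trivially on every factor `C i / C (i+1)`, `i < m`. -/
def stabChain : Subgroup A where
  carrier := {α | ∀ i, i < m → ∀ x ∈ C i, x⁻¹ * (α : MulAut H) x ∈ C (i + 1)}
  one_mem' := by intro i _ x _; simp
  mul_mem' := by
    intro α β ha hb i hi x hx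
    have h1 := hb i hi x hx
    have h2 := ha i hi x hx
    have e : x⁻¹ * ((α * β : A) : MulAut H) x =
        (x⁻¹ * (α : MulAut H) x) * (α : MulAut H) (x⁻¹ * (β : MulAut H) x) := by
      simp [mul_assoc]
    rw [e]
    exact (C (i + 1)).mul_mem h2 (hinv _ α.2 _ _ h1)
  inv_mem' := by
    intro α ha i hi x hx
    have hy : (α : MulAut H)⁻¹ x ∈ C i := hinv _ (A.inv_mem α.2) i x hx
    have h := (C (i + 1)).inv_mem (ha i hi _ hy)
    simpa using h

variable {A C m hinv}

theorem mem_stabChain {α : A} :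
    α ∈ stabChain A C m hinv ↔
      ∀ i, i < m → ∀ x ∈ C i, x⁻¹ * (α : MulAut H) x ∈ C (i + 1) := Iff.rfl

theorem stabChain_normal : (stabChain A C m hinv).Normal := by
  refine ⟨fun α ha g => ?_⟩
  intro i hi x hx
  have hy : (g : MulAut H)⁻¹ x ∈ C i := hinv _ (A.inv_mem g.2) i x hx
  have h := hinv _ g.2 _ _ (ha i hi _ hy)
  simpa [MulAut.mul_apply, MulAut.inv_def] using h

theorem stabChain_isPGroup [Finite H] {p : ℕ} [Fact p.Prime] (hH : IsPGroup p H)
    (h0 : C 0 = ⊤) (hm : C m = ⊥) : IsPGroup p (stabChain A C m hinv) := by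
  obtain ⟨e, he⟩ := IsPGroup.iff_card.1 hH
  intro β
  refine ⟨e * m, ?_⟩
  have key : ∀ j, j ≤ m → ∀ x ∈ C (m - j), (((β : A) : MulAut H) ^ (p ^ (e * j))) x = x := by
    intro j
    induction j with
    | zero => intro _ x hx; rw [Nat.sub_zero, hm, Subgroup.mem_bot] at hx; simp [hx]
    | succ j ih =>
      intro hj x hx
      set γ : A := (β : A) ^ (p ^ (e * j)) with hγ
      have hγmem : γ ∈ stabChain A C m hinv := Subgroup.pow_mem _ β.2 _
      have hc := hγmem (m - (j + 1)) (by omega) x hx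
      rw [show m - (j + 1) + 1 = m - j by omega] at hc
      have hfix : (γ : MulAut H) (x⁻¹ * (γ : MulAut H) x) = x⁻¹ * (γ : MulAut H) x := by
        rw [hγ, SubgroupClass.coe_pow]
        exact ih (by omega) _ (by simpa [hγ] using hc)
      set c := x⁻¹ * (γ : MulAut H) x with hcdef
      have hpow : ∀ k : ℕ, ((γ : MulAut H) ^ k) x = x * c ^ k := by
        intro k
        induction k with
        | zero => simp
        | succ k ihk =>
          have hx1 : (γ : MulAut H) x = x * c := by simp [hcdef]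
          rw [pow_succ', MulAut.mul_apply, ihk, map_mul, map_pow, hfix, hx1, mul_assoc, pow_succ']
      have hce : c ^ (p ^ e) = 1 := by rw [← he]; exact pow_card_eq_one'
      have hmul : ((β : A) : MulAut H) ^ (p ^ (e * (j + 1))) = (γ : MulAut H) ^ (p ^ e) := by
        rw [hγ, SubgroupClass.coe_pow, ← pow_mul, ← pow_add]; rfl
      rw [hmul, hpow, hce, mul_one]
  refine Subtype.ext (Subtype.ext (MulEquiv.ext fun x => ?_))
  simpa using key m le_rfl x (by rw [Nat.sub_self, h0]; trivial)

end Chain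

section Order

/-- An automorphism of `p`-power order fixes a group of order `p` pointwise, in the form needed
for a factor `B / D` of order `p`. -/
theorem inv_mul_apply_mem_of_relIndex {H : Type*} [Group H] [Finite H] {p : ℕ} [hp : Fact p.Prime]
    {B D : Subgroup H} (hidx : D.relIndex B = p) [hD : (D.subgroupOf B).Normal]
    {α : MulAut H} {k : ℕ} (hα : α ^ (p ^ k) = 1) (hB : ∀ x ∈ B, α x ∈ B)
    (hDinv : ∀ x ∈ D, α x ∈ D) {x : H} (hx : x ∈ B) : x⁻¹ * α x ∈ D := by
  by_cases hxD : x ∈ D
  · exact D.mul_mem (D.inv_mem hxD) (hDinv x hxD)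
  let q := QuotientGroup.mk' (D.subgroupOf B)
  have hcard : Nat.card (B ⧸ D.subgroupOf B) = p := by
    rw [← Subgroup.index_eq_card]; exact hidx
  have hne : q ⟨x, hx⟩ ≠ 1 := fun h => hxD ((QuotientGroup.eq_one_iff (N := D.subgroupOf B) _).1 h)
  have hgen : ∀ y : B ⧸ D.subgroupOf B, y ∈ Submonoid.powers (q ⟨x, hx⟩) := fun y =>
    mem_powers_of_prime_card hcard hne
  obtain ⟨a, ha⟩ := hgen (q ⟨α x, hB x hx⟩)
  have ha' : x ^ a * (α x)⁻¹ ∈ D := by
    have h : q (⟨x, hx⟩ ^ a * ⟨α x, hB x hx⟩⁻¹) = 1 := by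
      rw [map_mul, map_inv, map_pow, mul_inv_eq_one]
      exact ha
    exact (QuotientGroup.eq_one_iff (N := D.subgroupOf B) _).1 h
  have hiter : ∀ j : ℕ, q ⟨x, hx⟩ ^ (a ^ j) = q ⟨(α ^ j) x, by
      clear ha ha'
      induction j with
      | zero => simpa using hx
      | succ j ih => rw [pow_succ', MulAut.mul_apply]; exact hB _ ih⟩ := by
    intro j
    induction j with
    | zero => simp
    | succ j ih =>
      have hjB : (α ^ j) x ∈ B := by
        clear ih ha ha'
        induction j with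
        | zero => simpa using hx
        | succ j ih => rw [pow_succ', MulAut.mul_apply]; exact hB _ ih
      have h1 : x ^ (a ^ j) * ((α ^ j) x)⁻¹ ∈ D := by
        have : q (⟨x, hx⟩ ^ (a ^ j) * ⟨(α ^ j) x, hjB⟩⁻¹) = 1 := by
          rw [map_mul, map_inv, map_pow, ih, mul_inv_cancel]
        exact (QuotientGroup.eq_one_iff (N := D.subgroupOf B) _).1 this
      have h2 := hDinv _ h1
      rw [map_mul, map_pow, map_inv] at h2
      rw [pow_succ a j, mul_comm (a ^ j) a, pow_mul, show (q ⟨x, hx⟩) ^ a = q ⟨α x, hB x hx⟩ from ha,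
        ← map_pow]
      refine QuotientGroup.eq.2 ?_
      have hinBgoal : ∀ (u v : B), (u : H) * (v : H)⁻¹ ∈ D → u⁻¹ * v ∈ D.subgroupOf B := by
        intro u v huv
        have : q (u * v⁻¹) = 1 := (QuotientGroup.eq_one_iff (N := D.subgroupOf B) _).2 huv
        rw [map_mul, map_inv, mul_inv_eq_one] at this
        exact QuotientGroup.eq.1 this
      exact hinBgoal _ _ (by simpa [pow_succ', MulAut.mul_apply] using h2)
  have hq1 : q ⟨x, hx⟩ ^ (a ^ (p ^ k)) = q ⟨x, hx⟩ := by
    rw [hiter]; congr 1; exact Subtype.ext (by simp [hα])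
  have hord : orderOf (q ⟨x, hx⟩) = p :=
    orderOf_eq_prime (by rw [← hcard]; exact pow_card_eq_one') hne
  have hmod : a % p = 1 % p := by
    have h := (pow_inj_mod (x := q ⟨x, hx⟩) (n := a ^ (p ^ k)) (m := 1)).1 (by rw [pow_one]; exact hq1)
    rw [hord] at h
    have h2 : ((a ^ (p ^ k) : ℕ) : ZMod p) = ((1 : ℕ) : ZMod p) :=
      (ZMod.natCast_eq_natCast_iff' _ _ _).2 h
    rw [Nat.cast_pow, ZMod.pow_card_pow] at h2
    exact (ZMod.natCast_eq_natCast_iff' _ _ _).1 h2
  have : q ⟨x, hx⟩ ^ a = q ⟨x, hx⟩ := by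
    conv_rhs => rw [← pow_one (q ⟨x, hx⟩)]
    exact pow_inj_mod.2 (by rw [hord]; exact hmod)
  exact (QuotientGroup.eq (s := D.subgroupOf B)).1 (this.symm.trans ha)

end Order

end CfsgLib.FusionEssential
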