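import Cfsg.Agent.FusionEssential.AbelianRankTwo
import Cfsg.Agent.FusionEssential.PPowHom
import Cfsg.Agent.S4189

/-!
# Essential subgroups of order `p ^ 3`
-/

set_option autoImplicit false
set_option linter.style.haveILetI false

namespace CfsgLib.FusionEssential

open Cfsg Cfsg.FusionSystem CfsgLib.Fusion
open scoped commutatorElement

variable {Ω : Type*} [Group Ω] {S : Subgroup Ω} {F : FusionSystem S} {H : Subgroup Ω} {p : ℕ}

theorem not_isPGroup_autGroup [Finite S] [Fact p.Prime] (hess : F.IsEssential p H) :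
    ¬ IsPGroup p (F.autGroup H) := fun h => by
  obtain ⟨α, -, hout⟩ := exists_pElement_not_inn hess
  exact hout (map_le_Inn hess (K := ⊤) inferInstance (h.to_subgroup ⊤) ⟨α, trivial, rfl⟩)

/-- A non-abelian group of order `p ^ 3`: centre, derived and Frattini subgroup. -/
theorem center_of_card_cube {G : Type*} [Group G] [Finite G] [Fact p.Prime]
    (hcard : Nat.card G = p ^ 3) (hna : ¬ IsMulCommutative G) :
    Nat.card (Subgroup.center G) = p ∧ commutator G = Subgroup.center G ∧
      frattini G = Subgroup.center G ∧ ∀ x : G, x ^ p ∈ Subgroup.center G := by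
  have hp : p.Prime := Fact.out
  have hG : IsPGroup p G := IsPGroup.of_card hcard
  haveI : Nontrivial G := Finite.one_lt_card_iff_nontrivial.1 (by
    rw [hcard]; exact Nat.one_lt_pow (by norm_num) hp.one_lt)
  obtain ⟨k, hk0, hk⟩ := IsPGroup.card_center_eq_prime_pow hcard (by norm_num)
  have hmul : Nat.card (Subgroup.center G) * (Subgroup.center G).index = p ^ 3 := by
    rw [Subgroup.card_mul_index, hcard]
  have hk3 : k ≤ 3 := (Nat.pow_dvd_pow_iff_le_right hp.one_lt).1 (hk ▸ Dvd.intro _ hmul)
  have hcyc : ¬ IsCyclic (G ⧸ Subgroup.center G) := fun _ => hna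
    ⟨⟨commutative_of_cyclic_center_quotient (QuotientGroup.mk' (Subgroup.center G))
      (QuotientGroup.ker_mk' _).le⟩⟩
  have hindex : (Subgroup.center G).index = p ^ (3 - k) := by
    rw [hk] at hmul
    refine Nat.eq_of_mul_eq_mul_left (pow_pos hp.pos k) (hmul.trans ?_)
    rw [← pow_add]; congr 1; omega
  have hk1 : k = 1 := by
    by_contra h
    apply hcyc
    rcases (by omega : k = 2 ∨ k = 3) with rfl | rfl
    · exact isCyclic_of_prime_card (p := p)
        (by rw [← Subgroup.index_eq_card, hindex, pow_one])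
    · haveI : Subsingleton (G ⧸ Subgroup.center G) := (Nat.card_eq_one_iff_unique.1
        (by rw [← Subgroup.index_eq_card, hindex]; simp)).1
      exact isCyclic_of_subsingleton
  subst hk1
  have hq : Nat.card (G ⧸ Subgroup.center G) = p ^ 2 := by rw [← Subgroup.index_eq_card, hindex]
  have hqc := (IsPGroup.isMulCommutative_of_card_eq_prime_sq hq).is_comm.comm
  have hpow : ∀ x : G, x ^ p ∈ Subgroup.center G := by
    intro x
    rw [← QuotientGroup.eq_one_iff (N := Subgroup.center G), QuotientGroup.mk_pow]
    by_contra hx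
    refine hcyc (isCyclic_of_orderOf_eq_card (x : G ⧸ Subgroup.center G) ?_)
    obtain ⟨j, hj, hxj⟩ := (Nat.dvd_prime_pow hp).1
      (hq ▸ orderOf_dvd_natCard (x : G ⧸ Subgroup.center G))
    have hj2 : j = 2 := by
      by_contra h2
      refine hx (orderOf_dvd_iff_pow_eq_one.1 ?_)
      rw [hxj]
      exact (pow_dvd_pow p (show j ≤ 1 by omega)).trans (by rw [pow_one])
    rw [hxj, hj2, hq]
  have hle : commutator G ≤ Subgroup.center G := by
    rw [commutator_def, Subgroup.commutator_le]
    intro x _ y _
    rw [← QuotientGroup.eq_one_iff (N := Subgroup.center G)]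
    show (QuotientGroup.mk' (Subgroup.center G)) ⁅x, y⁆ = 1
    rw [map_commutatorElement, commutatorElement_eq_one_iff_mul_comm]
    exact hqc _ _
  have hZp : Nat.card (Subgroup.center G) = p := by rw [hk, pow_one]
  have hne : commutator G ≠ ⊥ := by
    intro h
    refine hna ⟨⟨fun x y => ?_⟩⟩
    have := Subgroup.commutator_mem_commutator (Subgroup.mem_top x) (Subgroup.mem_top y)
    rw [← commutator_def, h, Subgroup.mem_bot, commutatorElement_eq_one_iff_mul_comm] at this
    exact this
  have hcomm : commutator G = Subgroup.center G := by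
    haveI : Fact (Nat.card (Subgroup.center G)).Prime := ⟨hZp.symm ▸ hp⟩
    rcases (Subgroup.eq_bot_or_eq_top_of_prime_card ((commutator G).subgroupOf (Subgroup.center G))
      ) with h | h
    · exact absurd (by
        rw [eq_bot_iff]; intro x hx
        have : (⟨x, hle hx⟩ : Subgroup.center G) ∈ (commutator G).subgroupOf _ := hx
        rw [h, Subgroup.mem_bot] at this
        exact Subgroup.mem_bot.2 (congrArg Subtype.val this)) hne
    · exact le_antisymm hle fun x hx => by
        have : (⟨x, hx⟩ : Subgroup.center G) ∈ (commutator G).subgroupOf _ := h ▸ Subgroup.mem_top _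
        exact this
  refine ⟨hZp, hcomm, le_antisymm (CfsgLib.Solvable.frattini_le_of_elementary hle hpow) ?_, hpow⟩
  rw [← hcomm]
  exact CfsgLib.Solvable.commutator_le_frattini hG

theorem essential_card_cube [Finite S] [Fact p.Prime] (hS : IsPGroup p S)
    (hess : F.IsEssential p H) (hcard : Nat.card H = p ^ 3) :
    IsElementaryAbelian p H ∨ (Odd p ∧ IsExtraspecial p ↥H ∧ ∀ x ∈ H, x ^ p = 1) ∨
      (p = 2 ∧ Nonempty (↥H ≃* QuaternionGroup 2)) := by
  have hp : p.Prime := Fact.out
  haveI := finite_of_le hess.1.1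
  have hH : IsPGroup p H := hS.to_le hess.1.1
  by_cases hab : IsMulCommutative ↥H
  · left
    by_contra hne
    have hfr : (frattini ↥H).index ≤ p ^ 2 := by
      obtain ⟨x, hx⟩ : ∃ x : H, x ^ p ≠ 1 := by
        by_contra h
        push Not at h
        exact hne ⟨hab, fun a ha => congrArg Subtype.val (h ⟨a, ha⟩)⟩
      have hmem := CfsgLib.Solvable.pow_mem_frattini hH x
      obtain ⟨j, hj⟩ := hH.index (frattini ↥H)
      have hmul := Subgroup.card_mul_index (frattini ↥H)
      have hbot : frattini ↥H ≠ ⊥ := fun h => hx (by rwa [h, Subgroup.mem_bot] at hmem)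
      obtain ⟨i, hi⟩ := IsPGroup.iff_card.1 (hH.to_subgroup (frattini ↥H))
      have hi0 : i ≠ 0 := fun h0 => hbot (Subgroup.card_eq_one.1 (by rw [hi, h0, pow_zero]))
      rw [hi, hj, hcard, ← pow_add] at hmul
      rw [hj]
      exact Nat.pow_le_pow_right hp.pos (by have := Nat.pow_right_injective hp.two_le hmul; omega)
    obtain ⟨e, -, -, he, -, -⟩ := isEssential_abelian_rank_two hS hess
      (fun a b => hab.is_comm.comm a b) hfr
    have := Nat.pow_right_injective hp.two_le (hcard.symm.trans he)
    omega
  obtain ⟨hZp, hcomm, hfr, hpow⟩ := center_of_card_cube hcard hab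
  rcases hp.eq_two_or_odd' with rfl | hodd
  · refine Or.inr (Or.inr ⟨rfl, Cfsg.Agent.S4189.result hH hab ?_ ?_⟩)
    · have hmul := Subgroup.card_mul_index (commutator ↥H)
      rw [hcomm, hZp, hcard] at hmul
      rw [hcomm]; omega
    · exact fun h => not_isPGroup_autGroup hess (h.to_subgroup _)
  right; left
  refine ⟨hodd, ⟨⟨hH, hfr, hcomm⟩, hZp⟩, fun x hx => ?_⟩
  have hp2 : p ≠ 2 := fun h => by
    subst h
    exact (Nat.not_odd_iff_even.2 even_two) hodd
  have hc : ∀ a b : H, ⁅a, b⁆ ∈ Subgroup.center H := fun a b => by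
    rw [← hcomm, commutator_def]
    exact Subgroup.commutator_mem_commutator (Subgroup.mem_top a) (Subgroup.mem_top b)
  have hze : ∀ z ∈ Subgroup.center H, z ^ p = 1 := fun z hz => by
    have h : (⟨z, hz⟩ : Subgroup.center H) ^ p = 1 := by
      rw [← hZp]; exact pow_card_eq_one'
    exact congrArg Subtype.val h
  let f := pPowHom hp2 hc (fun a b => hze _ (hc a b))
  by_contra hxp
  -- the chain `H > Ω₁ > Z > 1`
  have hfrange : f.range = Subgroup.center H := by
    refine Subgroup.eq_of_le_of_card_ge (by rintro _ ⟨a, rfl⟩; exact hpow a) ?_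
    rw [hZp]
    have hne : f.range ≠ ⊥ := fun h => hxp (by
      have : f ⟨x, hx⟩ ∈ f.range := ⟨_, rfl⟩
      rw [h, Subgroup.mem_bot] at this
      exact congrArg Subtype.val this)
    obtain ⟨i, hi⟩ := IsPGroup.iff_card.1 (hH.to_subgroup f.range)
    rw [hi]
    exact Nat.le_self_pow (fun h0 => hne (Subgroup.card_eq_one.1 (by rw [hi, h0, pow_zero]))) p
  have hkle : Subgroup.center H ≤ f.ker := fun z hz => hze z hz
  have hkidx : f.ker.index = p := by rw [Subgroup.index_ker, hfrange, hZp]
  have hkZ : (Subgroup.center ↥H).relIndex f.ker = p := by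
    have h1 := Subgroup.card_mul_index (Subgroup.center ↥H)
    have h2 := Subgroup.relIndex_mul_index hkle
    rw [hkidx] at h2
    rw [← h2, hZp, hcard] at h1
    refine Nat.eq_of_mul_eq_mul_left hp.pos (Nat.eq_of_mul_eq_mul_right hp.pos ?_)
    rw [mul_assoc, h1]; ring
  let C : ℕ → Subgroup H := fun i =>
    if i = 0 then ⊤ else if i = 1 then f.ker else if i = 2 then Subgroup.center H else ⊥
  refine false_of_chain hS hess C 3 rfl rfl ?_ ?_ ?_
  · intro α _ i y hy
    match i with
    | 0 => trivial
    | 1 =>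
      show f (α y) = 1
      simp only [f, pPowHom_apply, ← map_pow]
      rw [show y ^ p = 1 from hy, map_one]
    | 2 =>
      have := Subgroup.Characteristic.fixed (H := Subgroup.center ↥H) inferInstance α
      show α y ∈ Subgroup.center ↥H
      have hy' : y ∈ Subgroup.center ↥H := hy
      rw [← this] at hy'
      exact hy'
    | i + 3 =>
      have : y = 1 := hy
      rw [this, map_one]; exact one_mem _
  · intro i hi
    match i with
    | 0 => exact (MonoidHom.normal_ker f).subgroupOf _
    | 1 => exact (inferInstance : (Subgroup.center ↥H).Normal).subgroupOf _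
    | 2 => exact (inferInstance : (⊥ : Subgroup ↥H).Normal).subgroupOf _
  · intro i hi
    match i with
    | 0 => show f.ker.relIndex ⊤ ∣ p; rw [Subgroup.relIndex_top_right, hkidx]
    | 1 => show (Subgroup.center ↥H).relIndex f.ker ∣ p; rw [hkZ]
    | 2 => show (⊥ : Subgroup ↥H).relIndex (Subgroup.center ↥H) ∣ p
           rw [Subgroup.relIndex_bot_left, hZp]

end CfsgLib.FusionEssential
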