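import Cfsg.Agent.Fusion.Saturation
import Cfsg.Agent.EvenType.StronglyEmbedded

/-!
# A criterion for essential subgroups

`isEssential_of_index_prime`: a centric fully normalised subgroup `P` of index `p` in `N_S(P)`
whose group `Aut_S(P)` is not normal in `Aut_F(P)` is essential.
-/

set_option autoImplicit false

namespace CfsgLib.FusionEssential

open Cfsg Cfsg.FusionSystem CfsgLib.Fusion

theorem isStronglyPEmbedded_normalizer {X : Type*} [Group X] [Finite X] {p : ℕ} [Fact p.Prime]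
    (P : Sylow p X) (hcard : Nat.card (P : Subgroup X) = p) (hn : ¬ (P : Subgroup X).Normal) :
    Cfsg.IsStronglyPEmbedded p (Subgroup.normalizer ((P : Subgroup X) : Set X)) := by
  have hdvd : p ∣ Nat.card X := hcard ▸ Subgroup.card_subgroup_dvd_card _
  refine ⟨hdvd, fun h => hn (Subgroup.normalizer_eq_top_iff.1 h), P, iSup_le fun Q => ?_⟩
  obtain ⟨Q, hQP, hQ⟩ := Q
  have hne : Q ≠ ⊥ := by
    rintro rfl
    refine hQ fun A _ _ => le_trans (Subgroup.card_le_card_group A) ?_
    rw [Subgroup.card_bot]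
    exact Nat.one_le_pow _ _ (Fact.out : p.Prime).pos
  have hQeq : Q = (P : Subgroup X) := by
    refine Subgroup.eq_of_le_of_card_ge hQP ?_
    rw [hcard]
    exact Nat.le_of_dvd Nat.card_pos (by
      rcases (P.isPGroup'.to_le hQP).card_eq_or_dvd with h | h
      · exact absurd (Subgroup.card_eq_one.1 h) hne
      · exact h)
  exact le_of_eq (by rw [show ((⟨Q, hQP, hQ⟩ : {Q : Subgroup X //
    Q ≤ (P : Subgroup X) ∧ ¬ PRankLE p (1 - 1) Q}) : Subgroup X) = P from hQeq])

variable {Ω : Type*} [Group Ω] {S : Subgroup Ω} {F : FusionSystem S} {p : ℕ}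

theorem isEssential_of_index_prime [Finite S] [Fact p.Prime] (hS : IsPGroup p S)
    (hF : F.IsSaturated p) {P : Subgroup Ω} (hc : F.IsCentric P) (hn : F.IsFullyNormalized P)
    (hidx : P.relIndex (normalizerIn S P) = p)
    {β : MulAut P} (hβ : β ∈ F.autGroup P) {γ : MulAut P} (hγ : γ ∈ autInducedBy S P)
    (hnot : β * γ * β⁻¹ ∉ autInducedBy S P) : F.IsEssential p P := by
  have := finite_of_le hc.1
  have hI : ((Inn P).subgroupOf (F.autGroup P)).Normal := (Inn_normal P).comap _
  obtain ⟨T, hT⟩ := (automized_receptive hS hF hn).1.2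
  refine ⟨hc, hn, hI, ?_⟩
  set q := QuotientGroup.mk' ((Inn P).subgroupOf (F.autGroup P))
  let T' := T.mapSurjective (f := q) (QuotientGroup.mk'_surjective _)
  have hT' : (Sylow.toSubgroup T') = (T : Subgroup _).map q := rfl
  have hnotn : ¬ (Sylow.toSubgroup T').Normal := by
    intro hN
    have h1 := hN.conj_mem (q ⟨γ, autInducedBy_le_autGroup hc.1 hγ⟩)
      (hT' ▸ Subgroup.mem_map_of_mem q (hT.symm ▸ hγ : (⟨γ, autInducedBy_le_autGroup hc.1 hγ⟩ :
        F.autGroup P) ∈ (T : Subgroup _)))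
      (q ⟨β, hβ⟩)
    rw [← map_mul, ← map_inv, ← map_mul, hT', ← Subgroup.mem_comap,
      Subgroup.comap_map_eq_self, hT] at h1
    · exact hnot h1
    · rw [hT, QuotientGroup.ker_mk']
      exact fun a ha => Inn_le_autInducedBy hc.1 ha
  refine ⟨_, isStronglyPEmbedded_normalizer T' ?_ hnotn⟩
  -- the order of the image of `Aut_S(P)`
  have hN : normalizerIn S P ≤ Subgroup.normalizer (P : Set Ω) := inf_le_right
  let f : normalizerIn S P →* F.autGroup P :=
    { toFun := fun g => ⟨P.normalizerMonoidHom ⟨g, hN g.2⟩,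
        autInducedBy_le_autGroup hc.1 (mem_autInducedBy_iff.2 ⟨g, g.2.1, hN g.2, fun _ => rfl⟩)⟩
      map_one' := Subtype.ext (map_one P.normalizerMonoidHom)
      map_mul' := fun a b => Subtype.ext (map_mul P.normalizerMonoidHom ⟨a, hN a.2⟩ ⟨b, hN b.2⟩) }
  have hrange : f.range = (autInducedBy S P).subgroupOf (F.autGroup P) := by
    ext a
    rw [Subgroup.mem_subgroupOf, mem_autInducedBy_iff]
    constructor
    · rintro ⟨g, rfl⟩
      exact ⟨g, g.2.1, hN g.2, fun _ => rfl⟩
    · rintro ⟨g, hg, hgn, h⟩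
      exact ⟨⟨g, hg, hgn⟩, Subtype.ext (MulEquiv.ext fun x => Subtype.ext (h x).symm)⟩
  rw [hT', hT, ← hrange, MonoidHom.map_range, ← Subgroup.index_ker]
  have hker : (q.comp f).ker = P.subgroupOf (normalizerIn S P) := by
    ext g
    rw [MonoidHom.mem_ker, MonoidHom.comp_apply, QuotientGroup.mk'_apply, QuotientGroup.eq_one_iff,
      Subgroup.mem_subgroupOf, Subgroup.mem_subgroupOf]
    constructor
    · rintro ⟨c, hc'⟩
      have h2 : (g : Ω)⁻¹ * c ∈ centralizerIn S P := by
        refine mem_centralizerIn'.2 ⟨mul_mem (inv_mem g.2.1) (hc.1 c.2), fun y hy => ?_⟩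
        have h3 : (c : Ω) * y * (c : Ω)⁻¹ = g * y * (g : Ω)⁻¹ :=
          congrArg Subtype.val (DFunLike.congr_fun hc' (⟨y, hy⟩ : P))
        calc (g : Ω)⁻¹ * c * y * ((g : Ω)⁻¹ * c)⁻¹
            = (g : Ω)⁻¹ * ((c : Ω) * y * (c : Ω)⁻¹) * g := by group
          _ = y := by rw [h3]; group
      simpa using mul_mem c.2 (inv_mem (centralizerIn_le_of_centric hc h2))
    · intro hg
      exact ⟨⟨g, hg⟩, MulEquiv.ext fun x => rfl⟩
  rw [hker]
  exact hidx

end CfsgLib.FusionEssential
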