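import Cfsg.Agent.FusionEssential.OrderCube

/-!
# Essential subgroups of order `p ^ 4`
-/

set_option autoImplicit false
set_option linter.style.haveILetI false

namespace CfsgLib.FusionEssential

open Cfsg Cfsg.FusionSystem CfsgLib.Fusion
open scoped commutatorElement

section Groups

variable {G : Type*} [Group G]

theorem characteristic_of_forall {K : Subgroup G} (h : ∀ (φ : G ≃* G) (x : G), x ∈ K → φ x ∈ K) :
    K.Characteristic :=
  Subgroup.characteristic_iff_map_le.2 fun φ => by
    rintro _ ⟨x, hx, rfl⟩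
    exact h φ x hx

theorem commutator_mul_right {x g h : G} (hh : ⁅x, h⁆ ∈ Subgroup.center G) :
    ⁅x, g * h⁆ = ⁅x, g⁆ * ⁅x, h⁆ := by
  have e : ⁅x, g * h⁆ = ⁅x, g⁆ * (g * ⁅x, h⁆ * g⁻¹) := by
    simp only [commutatorElement_def]; group
  rw [e, Subgroup.mem_center_iff.1 hh g, mul_inv_cancel_right]

/-- The commutator with a fixed element. -/
def commHom (x : G) (h : ∀ g, ⁅x, g⁆ ∈ Subgroup.center G) : G →* G :=
  MonoidHom.mk' (fun g => ⁅x, g⁆) fun a b => commutator_mul_right (g := a) (h b)

theorem mem_center_of_commutes {S : Set G} (hS : Subgroup.closure S = ⊤) {d : G}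
    (h : ∀ s ∈ S, s * d = d * s) : d ∈ Subgroup.center G := by
  rw [Subgroup.mem_center_iff]
  intro g
  have hg : g ∈ Subgroup.closure S := hS ▸ Subgroup.mem_top g
  induction hg using Subgroup.closure_induction with
  | mem s hs => exact h s hs
  | one => simp
  | mul a b _ _ iha ihb => rw [mul_assoc, ihb, ← mul_assoc, iha, mul_assoc]
  | inv a _ ih => exact (show Commute a d from ih).inv_left.eq

theorem commutator_le_of_generators {N : Subgroup G} [N.Normal] {S : Set G}
    (hS : Subgroup.closure S = ⊤) (h : ∀ a ∈ S, ∀ b ∈ S, ⁅a, b⁆ ∈ N) : commutator G ≤ N := by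
  have htop : Subgroup.closure (QuotientGroup.mk' N '' S) = ⊤ := by
    rw [← MonoidHom.map_closure, hS, Subgroup.map_top_of_surjective _ (QuotientGroup.mk'_surjective N)]
  have hc : ∀ a ∈ S, (a : G ⧸ N) ∈ Subgroup.center (G ⧸ N) := fun a ha =>
    mem_center_of_commutes htop (by
      rintro _ ⟨b, hb, rfl⟩
      show QuotientGroup.mk' N b * QuotientGroup.mk' N a =
        QuotientGroup.mk' N a * QuotientGroup.mk' N b
      rw [← commutatorElement_eq_one_iff_mul_comm, ← map_commutatorElement]
      exact (QuotientGroup.eq_one_iff _).2 (h b hb a ha))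
  have hall : (⊤ : Subgroup (G ⧸ N)) ≤ Subgroup.center (G ⧸ N) := by
    rw [← htop, Subgroup.closure_le]
    rintro _ ⟨a, ha, rfl⟩
    exact hc a ha
  rw [commutator_def, Subgroup.commutator_le]
  intro a _ b _
  rw [← QuotientGroup.eq_one_iff (N := N)]
  show QuotientGroup.mk' N ⁅a, b⁆ = 1
  rw [map_commutatorElement, commutatorElement_eq_one_iff_mul_comm]
  exact (Subgroup.mem_center_iff.1 (hall (Subgroup.mem_top _)) _)

variable {p : ℕ} [Fact p.Prime] [Finite G]

theorem card_eq_pow_of_lt (hG : IsPGroup p G) {A B : Subgroup G} (h : A < B) {a : ℕ}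
    (hA : Nat.card A = p ^ a) : p ^ (a + 1) ≤ Nat.card B := by
  obtain ⟨b, hb⟩ := IsPGroup.iff_card.1 (hG.to_subgroup B)
  rw [hb]
  refine Nat.pow_le_pow_right (Fact.out : p.Prime).pos ?_
  by_contra hlt
  refine h.ne (Subgroup.eq_of_le_of_card_ge h.le ?_)
  rw [hA, hb]
  exact Nat.pow_le_pow_right (Fact.out : p.Prime).pos (by omega)

/-- A subgroup between order `p ^ 2` and the whole of a group of order `p ^ 4`. -/
theorem card_eq_cube (hcard : Nat.card G = p ^ 4) {K : Subgroup G} (hne : K ≠ ⊤)
    (hlt : p ^ 2 < Nat.card K) : Nat.card K = p ^ 3 := by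
  have hp := (Fact.out : p.Prime)
  obtain ⟨b, hb⟩ := IsPGroup.iff_card.1 ((IsPGroup.of_card hcard).to_subgroup K)
  rw [hb] at hlt ⊢
  have h2 : 2 < b := (Nat.pow_lt_pow_iff_right hp.one_lt).1 hlt
  have h4 : b < 4 := by
    by_contra h
    exact hne (Subgroup.eq_top_of_le_card K (by
      rw [hb, hcard]; exact Nat.pow_le_pow_right hp.pos (by omega)))
  congr 1
  omega

/-- The centre of a nonabelian group of order `p ^ 4` of class at most two has order at least `p ^ 2`. -/
theorem false_of_class_two (hcard : Nat.card G = p ^ 4) (hZ : Nat.card (Subgroup.center G) = p)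
    (hna : ¬ IsMulCommutative G) (hc : ∀ a b : G, ⁅a, b⁆ ∈ Subgroup.center G) : False := by
  have hp := (Fact.out : p.Prime)
  obtain ⟨x, y, hxy⟩ : ∃ x y : G, ⁅x, y⁆ ≠ 1 := by
    by_contra h
    push Not at h
    exact hna ⟨⟨fun a b => commutatorElement_eq_one_iff_mul_comm.1 (h a b)⟩⟩
  let Φ : G →* Subgroup.center G × Subgroup.center G :=
    ((commHom x (hc x)).codRestrict _ (hc x)).prod ((commHom y (hc y)).codRestrict _ (hc y))
  have hgen : ∀ (u : Subgroup.center G), (u : G) ≠ 1 → Subgroup.zpowers u = ⊤ := fun u hu =>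
    zpowers_eq_top_of_prime_card hZ fun h => hu (congrArg Subtype.val h)
  have hxy' : ⁅y, x⁆ ≠ 1 := fun h => hxy (by rw [← commutatorElement_inv, h, inv_one])
  have hΦy : Φ y = (⟨⁅x, y⁆, hc x y⟩, 1) :=
    Prod.ext rfl (Subtype.ext (commutatorElement_self y))
  have hΦx : Φ x = (1, ⟨⁅y, x⁆, hc y x⟩) :=
    Prod.ext (Subtype.ext (commutatorElement_self x)) rfl
  have hsurj : ∀ H' : Subgroup G, x ∈ H' → y ∈ H' → ∀ v, v ∈ H'.map Φ := by
    rintro H' hxH hyH ⟨a, b⟩
    obtain ⟨i, hi⟩ := Subgroup.mem_zpowers_iff.1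
      ((hgen _ (by exact hxy) : Subgroup.zpowers (⟨⁅x, y⁆, hc x y⟩ : Subgroup.center G) = ⊤) ▸
        Subgroup.mem_top a)
    obtain ⟨j, hj⟩ := Subgroup.mem_zpowers_iff.1
      ((hgen _ (by exact hxy') : Subgroup.zpowers (⟨⁅y, x⁆, hc y x⟩ : Subgroup.center G) = ⊤) ▸
        Subgroup.mem_top b)
    refine ⟨y ^ i * x ^ j, mul_mem (H'.zpow_mem hyH i) (H'.zpow_mem hxH j), ?_⟩
    rw [map_mul, map_zpow, map_zpow, hΦy, hΦx]
    simp [Prod.ext_iff, hi, hj]
  have hrange : Φ.range = ⊤ := top_le_iff.1 fun v _ => by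
    rw [MonoidHom.range_eq_map]; exact hsurj ⊤ trivial trivial v
  have hker : Nat.card Φ.ker = p ^ 2 := by
    have h := Φ.ker.card_mul_index
    rw [Subgroup.index_ker, hrange, Subgroup.card_top, Nat.card_prod, hZ, hcard] at h
    refine Nat.eq_of_mul_eq_mul_right (Nat.mul_pos hp.pos hp.pos) ?_
    rw [h]; ring
  have hcomm := (IsPGroup.isMulCommutative_of_card_eq_prime_sq hker).is_comm.comm
  have hgenG : Subgroup.closure ({x, y} ∪ (Φ.ker : Set G)) = ⊤ := by
    refine top_le_iff.1 fun g _ => ?_
    have hxm : x ∈ Subgroup.closure ({x, y} ∪ (Φ.ker : Set G)) :=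
      Subgroup.subset_closure (Or.inl (Or.inl rfl))
    have hym : y ∈ Subgroup.closure ({x, y} ∪ (Φ.ker : Set G)) :=
      Subgroup.subset_closure (Or.inl (Or.inr rfl))
    obtain ⟨w, hw, hwg⟩ := hsurj _ hxm hym (Φ g)
    have : w⁻¹ * g ∈ Φ.ker := by rw [MonoidHom.mem_ker, map_mul, map_inv, hwg, inv_mul_cancel]
    rw [show g = w * (w⁻¹ * g) by rw [mul_inv_cancel_left]]
    exact mul_mem hw (Subgroup.subset_closure (Or.inr this))
  have hle : Φ.ker ≤ Subgroup.center G := fun d hd => by
    refine mem_center_of_commutes hgenG ?_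
    have h1 := congrArg Prod.fst (MonoidHom.mem_ker.1 hd)
    have h2 := congrArg Prod.snd (MonoidHom.mem_ker.1 hd)
    rintro s ((rfl | rfl) | hs)
    · exact commutatorElement_eq_one_iff_mul_comm.1 (congrArg Subtype.val h1)
    · exact commutatorElement_eq_one_iff_mul_comm.1 (congrArg Subtype.val h2)
    · exact congrArg Subtype.val (hcomm ⟨s, hs⟩ ⟨d, hd⟩)
  have h3 := Subgroup.card_le_of_le hle
  rw [hker, hZ, pow_two] at h3
  have := hp.one_lt
  nlinarith

/-- The second centre of a group of order `p ^ 4` with centre of order `p`, and its centraliser. -/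
theorem exists_series_of_center_prime (hcard : Nat.card G = p ^ 4)
    (hZ : Nat.card (Subgroup.center G) = p) (hna : ¬ IsMulCommutative G) :
    ∃ K W : Subgroup G, Subgroup.center G ≤ W ∧ W ≤ K ∧ K.Characteristic ∧ W.Characteristic ∧
      Nat.card K = p ^ 3 ∧ Nat.card W = p ^ 2 := by
  have hp := (Fact.out : p.Prime)
  let q := QuotientGroup.mk' (Subgroup.center G)
  let W := (Subgroup.center (G ⧸ Subgroup.center G)).comap q
  have hW : ∀ w : G, w ∈ W ↔ ∀ g : G, ⁅g, w⁆ ∈ Subgroup.center G := fun w => by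
    show q w ∈ Subgroup.center (G ⧸ Subgroup.center G) ↔ _
    rw [Subgroup.mem_center_iff]
    refine ⟨fun h g => ?_, fun h g => ?_⟩
    · rw [← QuotientGroup.eq_one_iff (N := Subgroup.center G)]
      show q ⁅g, w⁆ = 1
      rw [map_commutatorElement, commutatorElement_eq_one_iff_mul_comm]
      exact h (q g)
    · obtain ⟨g, rfl⟩ := QuotientGroup.mk'_surjective (Subgroup.center G) g
      show q g * q w = q w * q g
      rw [← commutatorElement_eq_one_iff_mul_comm, ← map_commutatorElement]
      exact (QuotientGroup.eq_one_iff _).2 (h g)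
  have hqc : Nat.card (G ⧸ Subgroup.center G) = p ^ 3 := by
    have h := Subgroup.card_eq_card_quotient_mul_card_subgroup (Subgroup.center G)
    rw [hcard, hZ] at h
    exact Nat.eq_of_mul_eq_mul_right hp.pos (by rw [← h]; ring)
  have hqna : ¬ IsMulCommutative (G ⧸ Subgroup.center G) := by
    intro h
    refine false_of_class_two hcard hZ hna fun a b => ?_
    rw [← QuotientGroup.eq_one_iff (N := Subgroup.center G)]
    show q ⁅a, b⁆ = 1
    rw [map_commutatorElement, commutatorElement_eq_one_iff_mul_comm]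
    exact h.is_comm.comm _ _
  have hWcard : Nat.card W = p ^ 2 := by
    have h := (Subgroup.center (G ⧸ Subgroup.center G)).card_mul_index
    rw [(center_of_card_cube hqc hqna).1, hqc] at h
    have h' := W.card_mul_index
    rw [show W.index = _ from
      Subgroup.index_comap_of_surjective _ (QuotientGroup.mk'_surjective _)] at h'
    have hidx : (Subgroup.center (G ⧸ Subgroup.center G)).index = p ^ 2 :=
      Nat.eq_of_mul_eq_mul_left hp.pos (by rw [h]; ring)
    rw [hidx, hcard] at h'
    exact Nat.eq_of_mul_eq_mul_right (pow_pos hp.pos 2) (by rw [h']; ring)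
  have hZW : Subgroup.center G ≤ W := fun z hz => (hW z).2 fun g => by
    rw [commutatorElement_eq_one_iff_mul_comm.2 (Subgroup.mem_center_iff.1 hz g)]
    exact one_mem _
  haveI hWchar : W.Characteristic := characteristic_of_forall fun φ w hw => (hW _).2 fun g => by
    obtain ⟨g, rfl⟩ := φ.surjective g
    rw [← map_commutatorElement, Subgroup.mem_center_iff]
    intro u
    obtain ⟨u, rfl⟩ := φ.surjective u
    rw [← map_mul, ← map_mul, Subgroup.mem_center_iff.1 ((hW w).1 hw g) u]
  obtain ⟨d, hd, hdZ⟩ : ∃ d ∈ W, d ∉ Subgroup.center G := SetLike.not_le_iff_exists.1 fun h => by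
    have := Subgroup.card_le_of_le h
    rw [hWcard, hZ, pow_two] at this
    have := hp.one_lt
    nlinarith
  have hdc : ∀ g, ⁅d, g⁆ ∈ Subgroup.center G := fun g => by
    rw [← commutatorElement_inv]; exact Subgroup.inv_mem _ ((hW d).1 hd g)
  let f := (commHom d hdc).codRestrict (Subgroup.center G) hdc
  have hfidx : f.ker.index ≤ p := by
    rw [Subgroup.index_ker, ← hZ]
    exact Subgroup.card_le_card_group _
  have hWgen : W = Subgroup.center G ⊔ Subgroup.zpowers d := by
    refine (Subgroup.eq_of_le_of_card_ge (sup_le hZW (Subgroup.zpowers_le.2 hd)) ?_).symm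
    rw [hWcard]
    refine card_eq_pow_of_lt (IsPGroup.of_card hcard) (left_lt_sup.2 fun h => hdZ
      (h (Subgroup.mem_zpowers d))) (by rw [pow_one]; exact hZ)
  have hker : f.ker = Subgroup.centralizer (W : Set G) := by
    refine le_antisymm (fun g hg => Subgroup.mem_centralizer_iff.2 ?_) fun g hg => ?_
    · have h1 : ⁅d, g⁆ = 1 := congrArg Subtype.val (MonoidHom.mem_ker.1 hg)
      have hle : W ≤ Subgroup.centralizer {g} := by
        rw [hWgen, sup_le_iff, Subgroup.zpowers_le]
        refine ⟨fun z hz => Subgroup.mem_centralizer_singleton_iff.2 ?_,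
          Subgroup.mem_centralizer_singleton_iff.2 (commutatorElement_eq_one_iff_mul_comm.1 h1)⟩
        exact (Subgroup.mem_center_iff.1 hz g).symm
      exact fun w hw => Subgroup.mem_centralizer_singleton_iff.1 (hle hw)
    · exact MonoidHom.mem_ker.2 (Subtype.ext (commutatorElement_eq_one_iff_mul_comm.2
        (Subgroup.mem_centralizer_iff.1 hg d hd)))
  refine ⟨f.ker, W, hZW, ?_, ?_, hWchar, ?_, hWcard⟩
  · rw [hker]
    intro w hw
    have := (IsPGroup.isMulCommutative_of_card_eq_prime_sq hWcard).is_comm.comm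
    exact Subgroup.mem_centralizer_iff.2 fun v hv =>
      congrArg Subtype.val (this ⟨v, hv⟩ ⟨w, hw⟩)
  · rw [hker]; infer_instance
  · refine card_eq_cube hcard (fun h => hdZ (Subgroup.mem_center_iff.2 fun g => ?_)) ?_
    · have hg : g ∈ f.ker := h ▸ Subgroup.mem_top g
      exact (commutatorElement_eq_one_iff_mul_comm.1 (congrArg Subtype.val (MonoidHom.mem_ker.1 hg))).symm
    · have h := f.ker.card_mul_index
      rw [hcard] at h
      by_contra hlt
      push Not at hlt
      have := Nat.mul_le_mul hlt hfidx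
      rw [h, ← pow_succ] at this
      have := (Nat.pow_le_pow_iff_right hp.one_lt).1 this
      omega

/-- A group of order `p ^ 4` generated by its centre of order `p ^ 2` and two noncommuting elements. -/
theorem closure_center_eq_top (hcard : Nat.card G = p ^ 4)
    (hZ : Nat.card (Subgroup.center G) = p ^ 2) {x y : G} (hxy : x * y ≠ y * x) :
    Subgroup.closure ({x, y} ∪ (Subgroup.center G : Set G)) = ⊤ := by
  have hG := IsPGroup.of_card hcard
  let A := Subgroup.center G ⊔ Subgroup.zpowers x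
  let B := Subgroup.closure ({x, y} ∪ (Subgroup.center G : Set G))
  have h1 : Subgroup.center G < A := left_lt_sup.2 fun h =>
    hxy (Subgroup.mem_center_iff.1 (h (Subgroup.mem_zpowers x)) y).symm
  have h2 : A < B := by
    refine lt_of_le_of_ne (sup_le (fun z hz => Subgroup.subset_closure (Or.inr hz))
      (Subgroup.zpowers_le.2 (Subgroup.subset_closure (Or.inl (Or.inl rfl))))) fun h => ?_
    have hyA : y ∈ A := h ▸ Subgroup.subset_closure (Or.inl (Or.inr rfl))
    have hle : A ≤ Subgroup.centralizer {x} := sup_le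
      (fun z hz => Subgroup.mem_centralizer_singleton_iff.2 (Subgroup.mem_center_iff.1 hz x).symm)
      (Subgroup.zpowers_le.2 (Subgroup.mem_centralizer_singleton_iff.2 rfl))
    exact hxy (Subgroup.mem_centralizer_singleton_iff.1 (hle hyA)).symm
  refine Subgroup.eq_top_of_le_card B ?_
  rw [hcard]
  obtain ⟨a, ha⟩ := IsPGroup.iff_card.1 (hG.to_subgroup A)
  refine le_trans ?_ (card_eq_pow_of_lt hG h2 ha)
  refine Nat.pow_le_pow_right (Fact.out : p.Prime).pos ?_
  have := card_eq_pow_of_lt hG h1 hZ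
  rw [ha] at this
  have := (Nat.pow_le_pow_iff_right (Fact.out : p.Prime).one_lt).1 this
  omega

end Groups

variable {Ω : Type*} [Group Ω] {S : Subgroup Ω} {F : FusionSystem S} {H : Subgroup Ω} {p : ℕ}

/-- A finite carrier in the lowest universe. -/
def FinCopy (n : ℕ) : Type := Fin n

instance (n : ℕ) : Finite (FinCopy n) := inferInstanceAs (Finite (Fin n))

/-- An essential subgroup of order `p ^ 4` has no characteristic series with all indices `p`. -/
theorem false_of_four [Finite S] [Fact p.Prime] (hS : IsPGroup p S) (hess : F.IsEssential p H)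
    (hcard : Nat.card H = p ^ 4) {K W Z : Subgroup H} (hK : K.Characteristic)
    (hW : W.Characteristic) (hZc : Z.Characteristic) (hWK : W ≤ K) (hZW : Z ≤ W)
    (hKc : Nat.card K = p ^ 3) (hWc : Nat.card W = p ^ 2) (hZcard : Nat.card Z = p) : False := by
  haveI := finite_of_le hess.1.1
  haveI := hK
  haveI := hW
  haveI := hZc
  have hp := (Fact.out : p.Prime)
  let C : ℕ → Subgroup H := fun i =>
    if i = 0 then ⊤ else if i = 1 then K else if i = 2 then W else if i = 3 then Z else ⊥
  have hrel : ∀ {A B : Subgroup H}, A ≤ B → Nat.card B = Nat.card A * p → A.relIndex B ∣ p := by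
    intro A B hAB hc
    have h := (A.subgroupOf B).card_mul_index
    rw [Nat.card_congr (Subgroup.subgroupOfEquivOfLe hAB).toEquiv, hc] at h
    exact (Nat.eq_of_mul_eq_mul_left Nat.card_pos h).dvd
  refine false_of_chain hS hess C 4 rfl rfl ?_ ?_ ?_
  · intro α _ i y hy
    have hfix : ∀ (L : Subgroup H), L.Characteristic → y ∈ L → α y ∈ L := fun L hL hyL =>
      (Subgroup.characteristic_iff_map_le.1 hL α) ⟨y, hyL, rfl⟩
    match i with
    | 0 => trivial
    | 1 => exact hfix K hK hy
    | 2 => exact hfix W hW hy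
    | 3 => exact hfix Z hZc hy
    | i + 4 =>
      have : y = 1 := hy
      rw [this, map_one]; exact one_mem _
  · intro i hi
    match i with
    | 0 => exact (inferInstance : K.Normal).subgroupOf _
    | 1 => exact (inferInstance : W.Normal).subgroupOf _
    | 2 => exact (inferInstance : Z.Normal).subgroupOf _
    | 3 => exact (inferInstance : (⊥ : Subgroup ↥H).Normal).subgroupOf _
  · intro i hi
    match i with
    | 0 => exact hrel (A := K) (B := ⊤) le_top (by rw [Subgroup.card_top, hcard, hKc]; ring)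
    | 1 => exact hrel (A := W) (B := K) hWK (by rw [hWc, hKc]; ring)
    | 2 => exact hrel (A := Z) (B := W) hZW (by rw [hWc, hZcard]; ring)
    | 3 => exact hrel (A := ⊥) (B := Z) bot_le (by rw [Subgroup.card_bot, hZcard]; ring)

/-- An abelian essential subgroup of order `p ^ 4`. -/
theorem essential_card_four_abelian [Finite S] [Fact p.Prime] (hS : IsPGroup p S)
    (hess : F.IsEssential p H) (hcard : Nat.card H = p ^ 4) (hab : IsMulCommutative ↥H) :
    IsElementaryAbelian p H ∨
      Nonempty (↥H ≃* Multiplicative (ZMod (p ^ 2) × ZMod p × ZMod p)) ∨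
      ((p = 2 ∨ p = 3) ∧ Nonempty (↥H ≃* Multiplicative (ZMod (p ^ 2) × ZMod (p ^ 2)))) := by
  haveI := finite_of_le hess.1.1
  have hp := (Fact.out : p.Prime)
  have hH : IsPGroup p H := IsPGroup.of_card hcard
  by_cases hrk : (frattini ↥H).index ≤ p ^ 2
  · obtain ⟨e, he, -, hec, h5, -⟩ :=
      isEssential_abelian_rank_two hS hess (fun a b => hab.is_comm.comm a b) hrk
    have h2 : e = 2 := by
      have := Nat.pow_right_injective hp.two_le (hcard.symm.trans hec)
      omega
    subst h2
    refine Or.inr (Or.inr ⟨?_, he⟩)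
    have h4 : ¬ 5 ≤ p := fun h => absurd (h5 h) (by norm_num)
    interval_cases p <;> first | omega | (exfalso; revert hp; norm_num) | simp
  letI : CommGroup ↥H := { (inferInstance : Group ↥H) with mul_comm := hab.is_comm.comm }
  by_cases hel : ∀ x : H, x ^ p = 1
  · exact Or.inl ⟨hab, fun a ha => congrArg Subtype.val (hel ⟨a, ha⟩)⟩
  push Not at hel
  obtain ⟨x, hx⟩ := hel
  refine Or.inr (Or.inl ?_)
  let pw : H →* H := powMonoidHom p
  have hfr : frattini ↥H = pw.range := by
    rw [frattini_eq_powRange p hH, powRange, pow_one]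
  have hrange : Nat.card pw.range = p := by
    obtain ⟨i, hi⟩ := IsPGroup.iff_card.1 (hH.to_subgroup pw.range)
    have hi0 : i ≠ 0 := fun h0 => hx (by
      have h1 : pw x ∈ pw.range := ⟨x, rfl⟩
      rwa [(Subgroup.card_eq_one (H := pw.range)).1 (by rw [hi, h0, pow_zero]), Subgroup.mem_bot] at h1)
    have h := pw.range.card_mul_index
    rw [hi, hcard] at h
    rw [hfr] at hrk
    obtain ⟨j, hj⟩ := hH.index pw.range
    rw [hj] at h hrk
    rw [← pow_add] at h
    have hij := Nat.pow_right_injective hp.two_le h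
    have hj3 : 2 < j := by
      by_contra hc
      exact hrk (Nat.pow_le_pow_right hp.pos (by omega))
    rw [hi, show i = 1 by omega, pow_one]
  have hker : Nat.card pw.ker = p ^ 3 := by
    have h := pw.ker.card_mul_index
    rw [Subgroup.index_ker, hrange, hcard] at h
    exact Nat.eq_of_mul_eq_mul_right hp.pos (by rw [h]; ring)
  have hx2 : x ^ p ^ 2 = 1 := by
    have h1 : (⟨pw x, ⟨x, rfl⟩⟩ : pw.range) ^ p = 1 := by
      rw [← hrange]; exact pow_card_eq_one'
    rw [pow_two, pow_mul]
    exact congrArg Subtype.val h1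
  let X := Subgroup.zpowers x
  have hX : Nat.card X = p ^ 2 := by
    rw [Nat.card_zpowers]
    exact orderOf_eq_prime_pow (by simpa using hx) (by simpa using hx2)
  have step : ∀ (A : Subgroup H) (a : ℕ), Nat.card A = p ^ a → a < 4 → X ≤ A →
      ∃ y ∈ pw.ker, y ∉ A := by
    intro A a hA ha hXA
    by_contra hno
    push Not at hno
    have hkA : pw.ker ≤ A := hno
    have hlt : pw.ker < A := lt_of_le_of_ne hkA fun h => hx (h ▸ hXA (Subgroup.mem_zpowers x) :)
    have := card_eq_pow_of_lt hH hlt hker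
    rw [hA] at this
    have := (Nat.pow_le_pow_iff_right hp.one_lt).1 this
    omega
  obtain ⟨y, hy, hyX⟩ := step X 2 hX (by norm_num) le_rfl
  let A := X ⊔ Subgroup.zpowers y
  have hA : p ^ 3 ≤ Nat.card A := card_eq_pow_of_lt hH
    (left_lt_sup.2 fun h => hyX (h (Subgroup.mem_zpowers y))) hX
  obtain ⟨z, hz, hzA⟩ : ∃ z ∈ pw.ker, z ∉ A ∨ A = ⊤ := by
    by_cases hAt : A = ⊤
    · exact ⟨y, hy, Or.inr hAt⟩
    obtain ⟨a, ha⟩ := IsPGroup.iff_card.1 (hH.to_subgroup A)
    obtain ⟨z, hz, hzA⟩ := step A a ha (by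
      by_contra h4
      exact hAt (Subgroup.eq_top_of_le_card A (by
        rw [ha, hcard]; exact Nat.pow_le_pow_right hp.pos (by omega)))) le_sup_left
    exact ⟨z, hz, Or.inl hzA⟩
  have hgen : A ⊔ Subgroup.zpowers z = ⊤ := by
    rcases hzA with hzA | hzA
    · refine Subgroup.eq_top_of_le_card _ ?_
      obtain ⟨a, ha⟩ := IsPGroup.iff_card.1 (hH.to_subgroup A)
      refine le_trans ?_ (card_eq_pow_of_lt hH
        (left_lt_sup.2 fun h => hzA (h (Subgroup.mem_zpowers z))) ha)
      rw [ha] at hA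
      rw [hcard]
      exact Nat.pow_le_pow_right hp.pos (by have := (Nat.pow_le_pow_iff_right hp.one_lt).1 hA; omega)
    · rw [hzA, top_sup_eq]
  haveI : NeZero (p ^ 2) := ⟨pow_ne_zero 2 hp.ne_zero⟩
  haveI : NeZero p := ⟨hp.ne_zero⟩
  have lifts : ∀ (n : ℕ) (a : H), a ^ n = 1 → ∃ f : ZMod n →+ Additive H,
      f 1 = Additive.ofMul a := by
    intro n a ha
    refine ⟨ZMod.lift n ⟨zmultiplesHom (Additive H) (Additive.ofMul a), ?_⟩, ?_⟩
    · show ((n : ℤ)) • Additive.ofMul a = 0
      rw [natCast_zsmul, ← ofMul_pow, ha, ofMul_one]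
    · simpa using ZMod.lift_coe n ⟨zmultiplesHom (Additive H) (Additive.ofMul a), by
        show ((n : ℤ)) • Additive.ofMul a = 0
        rw [natCast_zsmul, ← ofMul_pow, ha, ofMul_one]⟩ 1
  obtain ⟨f, hf⟩ := lifts (p ^ 2) x hx2
  obtain ⟨g, hg⟩ := lifts p y hy
  obtain ⟨h, hh⟩ := lifts p z hz
  let M : Multiplicative (ZMod (p ^ 2) × ZMod p × ZMod p) →* H :=
    AddMonoidHom.toMultiplicativeLeft (f.coprod (g.coprod h))
  have hsurj : Function.Surjective M := by
    rw [← MonoidHom.range_eq_top, eq_top_iff, ← hgen, sup_le_iff, sup_le_iff, Subgroup.zpowers_le,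
      Subgroup.zpowers_le, Subgroup.zpowers_le]
    exact ⟨⟨⟨Multiplicative.ofAdd (1, 0, 0), by simp [M, hf]⟩,
      ⟨Multiplicative.ofAdd (0, 1, 0), by simp [M, hg]⟩⟩,
      ⟨Multiplicative.ofAdd (0, 0, 1), by simp [M, hh]⟩⟩
  have hbij : Function.Bijective M := (Nat.bijective_iff_surjective_and_card M).2 ⟨hsurj, by
    rw [Nat.card_congr Multiplicative.toAdd, Nat.card_prod, Nat.card_prod, Nat.card_zmod,
      Nat.card_zmod, hcard]
    ring⟩
  exact ⟨(MulEquiv.ofBijective M hbij).symm⟩

/-- A nonabelian essential subgroup of order `p ^ 4`. -/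
theorem essential_card_four_nonabelian [Finite S] [Fact p.Prime] (hS : IsPGroup p S)
    (hess : F.IsEssential p H) (hcard : Nat.card H = p ^ 4) (hna : ¬ IsMulCommutative ↥H) :
    (Odd p ∧ ∃ (E : Type) (_ : Group E) (_ : Finite E), Cfsg.IsExtraspecial p E ∧
      Nat.card E = p ^ 3 ∧ (∀ x : E, x ^ p = 1) ∧ Nonempty (↥H ≃* E × Multiplicative (ZMod p))) ∨
    (p = 2 ∧ Nonempty (↥H ≃* QuaternionGroup 2 × Multiplicative (ZMod 2))) ∨
    ((∀ x ∈ H, x ^ (p ^ 2) = 1) ∧ IsCyclic ↥(Subgroup.center ↥H) ∧
        Nat.card (Subgroup.center ↥H) = p ^ 2) := by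
  haveI := finite_of_le hess.1.1
  have hp := (Fact.out : p.Prime)
  have hH : IsPGroup p H := IsPGroup.of_card hcard
  obtain ⟨k, hk0, hk⟩ := IsPGroup.card_center_eq_prime_pow hcard (by norm_num)
  have hcyc : ¬ IsCyclic (↥H ⧸ Subgroup.center ↥H) := fun _ => hna
    ⟨⟨commutative_of_cyclic_center_quotient (QuotientGroup.mk' (Subgroup.center ↥H))
      (QuotientGroup.ker_mk' _).le⟩⟩
  have hq : Nat.card (↥H ⧸ Subgroup.center ↥H) * p ^ k = p ^ 4 := by
    rw [← hk, ← Subgroup.card_eq_card_quotient_mul_card_subgroup, hcard]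
  rcases (show k = 1 ∨ k = 2 ∨ 3 ≤ k by omega) with rfl | rfl | hk3
  · obtain ⟨K, W, h1, h2, h3, h4, h5, h6⟩ :=
      exists_series_of_center_prime hcard (by rw [hk, pow_one]) hna
    exact (false_of_four hS hess hcard h3 h4 inferInstance h2 h1 h5 h6 (by rw [hk, pow_one])).elim
  rotate_left
  · refine absurd ?_ hcyc
    refine isCyclic_of_card_dvd_prime (p := p) ?_
    refine Nat.dvd_of_mul_dvd_mul_right (pow_pos hp.pos k) ?_
    rw [hq, ← pow_succ']
    exact pow_dvd_pow p (by omega)
  have hqc : Nat.card (↥H ⧸ Subgroup.center ↥H) = p ^ 2 :=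
    Nat.eq_of_mul_eq_mul_right (pow_pos hp.pos 2) (by rw [hq]; ring)
  have hqab := (IsPGroup.isMulCommutative_of_card_eq_prime_sq hqc).is_comm.comm
  have hc : ∀ a b : H, ⁅a, b⁆ ∈ Subgroup.center H := fun a b => by
    rw [← QuotientGroup.eq_one_iff (N := Subgroup.center ↥H)]
    show QuotientGroup.mk' (Subgroup.center ↥H) ⁅a, b⁆ = 1
    rw [map_commutatorElement, commutatorElement_eq_one_iff_mul_comm]
    exact hqab _ _
  have hpow : ∀ a : H, a ^ p ∈ Subgroup.center H := by
    intro a
    rw [← QuotientGroup.eq_one_iff (N := Subgroup.center ↥H), QuotientGroup.mk_pow]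
    by_contra ha
    refine hcyc (isCyclic_of_orderOf_eq_card (a : ↥H ⧸ Subgroup.center ↥H) ?_)
    rw [hqc]
    refine orderOf_eq_prime_pow (n := 1) (by simpa using ha) ?_
    rw [← hqc]; exact pow_card_eq_one'
  have hep : ∀ a b : H, ⁅a, b⁆ ^ p = 1 := fun a b => by
    have h1 := map_pow (commHom a (hc a)) b p
    have h2 : commHom a (hc a) (b ^ p) = 1 :=
      commutatorElement_eq_one_iff_mul_comm.2 (Subgroup.mem_center_iff.1 (hpow b) a)
    rw [h2] at h1
    exact h1.symm
  have hmulp : ∀ a b : H, ∃ c : H, (c = ⁅b⁻¹, a⁻¹⁆) ∧ (a * b) ^ p = a ^ p * b ^ p * c ^ p.choose 2 :=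
    fun a b => ⟨_, rfl, mul_pow_of_central_commutator
      (by rw [commutatorElement_def]; group) (hc _ _) p⟩
  obtain ⟨x, y, hxy⟩ : ∃ x y : H, x * y ≠ y * x := by
    by_contra h
    push Not at h
    exact hna ⟨⟨h⟩⟩
  have hgen := closure_center_eq_top hcard hk hxy
  by_cases hZc : IsCyclic ↥(Subgroup.center ↥H)
  · refine Or.inr (Or.inr ⟨?_, hZc, hk⟩)
    -- `a ↦ a ^ (p²)`
    let θ : H →* H := MonoidHom.mk' (fun a => (a ^ p) ^ p) fun a b => by
      obtain ⟨c, hcdef, hab⟩ := hmulp a b
      show ((a * b) ^ p) ^ p = (a ^ p) ^ p * (b ^ p) ^ p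
      have h1 : Commute (a ^ p) (b ^ p) := (Subgroup.mem_center_iff.1 (hpow b) (a ^ p))
      have h2 : Commute (a ^ p * b ^ p) (c ^ p.choose 2) :=
        Subgroup.mem_center_iff.1 (Subgroup.pow_mem _ (hcdef ▸ hc _ _) _) _
      rw [hab, h2.mul_pow, h1.mul_pow, ← pow_mul c, mul_comm (p.choose 2), pow_mul, hcdef, hep,
        one_pow, mul_one]
    suffices hθ : θ.ker = ⊤ by
      intro a ha
      have : θ ⟨a, ha⟩ = 1 := MonoidHom.mem_ker.1 (hθ ▸ Subgroup.mem_top _)
      have := congrArg (fun e : H => (e : Ω)) this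
      simpa [θ, pow_two, pow_mul] using this
    by_contra hne
    let pz : ↥(Subgroup.center ↥H) →* H := MonoidHom.mk' (fun u => (u : H) ^ p) fun u v => by
      rw [Subgroup.coe_mul]
      exact Commute.mul_pow (Subgroup.mem_center_iff.1 v.2 u) p
    have hpz : Nat.card pz.range = p := by
      obtain ⟨g, hg⟩ := IsCyclic.exists_generator (α := ↥(Subgroup.center ↥H))
      have hgo : orderOf g = p ^ 2 := by
        rw [orderOf_eq_card_of_forall_mem_zpowers hg, hk]
      have hr : pz.range = Subgroup.zpowers (((g ^ p : ↥(Subgroup.center ↥H))) : H) := by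
        refine le_antisymm ?_ (Subgroup.zpowers_le.2 ⟨g, rfl⟩)
        rintro _ ⟨u, rfl⟩
        obtain ⟨i, rfl⟩ := Subgroup.mem_zpowers_iff.1 (hg u)
        refine Subgroup.mem_zpowers_iff.2 ⟨i, ?_⟩
        show _ = (((g ^ i) ^ p : ↥(Subgroup.center ↥H)) : H)
        rw [← SubgroupClass.coe_zpow, ← zpow_natCast, ← zpow_natCast, zpow_comm]
      rw [hr, Nat.card_zpowers, Subgroup.orderOf_coe, orderOf_pow' _ hp.ne_zero, hgo, pow_two,
        Nat.gcd_mul_left_left, Nat.mul_div_cancel _ hp.pos]
    have hrle : θ.range ≤ pz.range := by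
      rintro _ ⟨a, rfl⟩
      exact ⟨⟨a ^ p, hpow a⟩, rfl⟩
    have hZle : Subgroup.center ↥H ≤ θ.ker := fun z hz => by
      have h1 : (⟨z, hz⟩ : ↥(Subgroup.center ↥H)) ^ p ^ 2 = 1 := by
        rw [← hk]; exact pow_card_eq_one'
      show (z ^ p) ^ p = 1
      rw [← pow_mul, ← pow_two]
      exact congrArg Subtype.val h1
    have hKc : Nat.card θ.ker = p ^ 3 := by
      refine card_eq_cube hcard hne ?_
      by_contra hlt
      push Not at hlt
      have h := θ.ker.card_mul_index
      rw [Subgroup.index_ker, hcard] at h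
      have := Nat.mul_le_mul hlt ((Subgroup.card_le_of_le hrle).trans hpz.le)
      rw [h, ← pow_succ] at this
      have := (Nat.pow_le_pow_iff_right hp.one_lt).1 this
      omega
    refine false_of_four hS hess hcard (K := θ.ker) (W := Subgroup.center ↥H) (Z := pz.range)
      (characteristic_of_forall fun φ a ha => ?_) inferInstance
      (characteristic_of_forall fun φ a ha => ?_) hZle ?_ hKc hk hpz
    · show (φ a ^ p) ^ p = 1
      rw [← map_pow, ← map_pow, show (a ^ p) ^ p = 1 from ha, map_one]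
    · obtain ⟨u, rfl⟩ := ha
      refine ⟨⟨φ u, ?_⟩, (map_pow φ (u : H) p).symm⟩
      exact Subgroup.characteristic_iff_map_le.1 (inferInstance : (Subgroup.center ↥H).Characteristic)
        φ ⟨u, u.2, rfl⟩
    · rintro _ ⟨u, rfl⟩
      exact (u ^ p).2
  -- the centre is elementary
  have hze : ∀ z ∈ Subgroup.center ↥H, z ^ p = 1 := by
    intro z hz
    by_contra hz1
    refine hZc (isCyclic_of_orderOf_eq_card (⟨z, hz⟩ : ↥(Subgroup.center ↥H)) ?_)
    rw [hk]
    refine orderOf_eq_prime_pow (n := 1) (fun h => hz1 ?_) ?_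
    · simpa using congrArg Subtype.val h
    · rw [← hk]; exact pow_card_eq_one'
  let D := commutator ↥H
  have hDle : D ≤ Subgroup.center ↥H := by
    rw [show D = _ from commutator_def _, Subgroup.commutator_le]
    exact fun a _ b _ => hc a b
  have hxy' : ⁅x, y⁆ ≠ 1 := fun h => hxy (commutatorElement_eq_one_iff_mul_comm.1 h)
  have hDc : Nat.card D = p := by
    haveI : (Subgroup.zpowers ⁅x, y⁆).Normal := by
      refine ⟨fun n hn g => ?_⟩
      rw [Subgroup.mem_center_iff.1 (Subgroup.zpowers_le.2 (hc x y) hn) g, mul_inv_cancel_right]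
      exact hn
    have h1 : D ≤ Subgroup.zpowers ⁅x, y⁆ := by
      refine commutator_le_of_generators hgen ?_
      rintro a ha b hb
      rcases ha with (rfl | rfl) | ha
      · rcases hb with (rfl | rfl) | hb
        · rw [commutatorElement_self]; exact one_mem _
        · exact Subgroup.mem_zpowers _
        · rw [commutatorElement_eq_one_iff_mul_comm.2 (Subgroup.mem_center_iff.1 hb _)]
          exact one_mem _
      · rcases hb with (rfl | rfl) | hb
        · rw [show ⁅a, b⁆ = ⁅b, a⁆⁻¹ from (commutatorElement_inv _ _).symm]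
          exact Subgroup.inv_mem _ (Subgroup.mem_zpowers _)
        · rw [commutatorElement_self]; exact one_mem _
        · rw [commutatorElement_eq_one_iff_mul_comm.2 (Subgroup.mem_center_iff.1 hb _)]
          exact one_mem _
      · rw [commutatorElement_eq_one_iff_mul_comm.2 (Subgroup.mem_center_iff.1 ha b).symm]
        exact one_mem _
    have h2 : D = Subgroup.zpowers ⁅x, y⁆ := le_antisymm h1 (Subgroup.zpowers_le.2 (by
      rw [show D = _ from commutator_def _]
      exact Subgroup.commutator_mem_commutator (Subgroup.mem_top x) (Subgroup.mem_top y)))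
    rw [h2, Nat.card_zpowers]
    exact orderOf_eq_prime (hep x y) hxy'
  -- the `p`-th powers lie in `D`
  have hpD : ∀ a : H, a ^ p ∈ D := by
    let f : H →* ↥H ⧸ D := MonoidHom.mk' (fun a => ((a ^ p : H) : ↥H ⧸ D)) fun a b => by
      obtain ⟨c, hcdef, hab⟩ := hmulp a b
      rw [← QuotientGroup.mk_mul, hab]
      refine QuotientGroup.mk_mul_of_mem _ (Subgroup.pow_mem _ (hcdef ▸ ?_) _)
      rw [show D = _ from commutator_def _]
      exact Subgroup.commutator_mem_commutator (Subgroup.mem_top _) (Subgroup.mem_top _)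
    by_contra hno
    push Not at hno
    obtain ⟨a, ha⟩ := hno
    have hne : f.ker ≠ ⊤ := fun h => ha ((QuotientGroup.eq_one_iff _).1
      (MonoidHom.mem_ker.1 (h ▸ Subgroup.mem_top a) : f a = 1))
    have hZle : Subgroup.center ↥H ≤ f.ker := fun z hz => by
      show ((z ^ p : H) : ↥H ⧸ D) = 1
      rw [hze z hz]; rfl
    have hrle : f.range ≤ (Subgroup.center ↥H).map (QuotientGroup.mk' D) := by
      rintro _ ⟨b, rfl⟩
      exact ⟨b ^ p, hpow b, rfl⟩
    have hmap : Nat.card ((Subgroup.center ↥H).map (QuotientGroup.mk' D)) = p := by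
      have h := (D.subgroupOf (Subgroup.center ↥H)).card_mul_index
      rw [Nat.card_congr (Subgroup.subgroupOfEquivOfLe hDle).toEquiv, hDc, hk,
        ← Subgroup.relIndex] at h
      have e : Nat.card ((Subgroup.center ↥H).map (QuotientGroup.mk' D)) =
          D.relIndex (Subgroup.center ↥H) := by
        rw [← Subgroup.relIndex_bot_left, ← Subgroup.relIndex_comap]
        congr 1
        rw [MonoidHom.comap_bot, QuotientGroup.ker_mk']
      rw [e]
      exact Nat.eq_of_mul_eq_mul_left hp.pos (by rw [h]; ring)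
    refine false_of_four hS hess hcard (K := f.ker) (W := Subgroup.center ↥H) (Z := D)
      (characteristic_of_forall fun φ b hb => ?_) inferInstance inferInstance hZle hDle
      (card_eq_cube hcard hne ?_) hk hDc
    · show ((φ b ^ p : H) : ↥H ⧸ D) = 1
      rw [QuotientGroup.eq_one_iff, ← map_pow]
      exact Subgroup.characteristic_iff_map_le.1 (inferInstance : D.Characteristic) φ
        ⟨b ^ p, (QuotientGroup.eq_one_iff _).1 (MonoidHom.mem_ker.1 hb), rfl⟩
    · by_contra hlt
      push Not at hlt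
      have h := f.ker.card_mul_index
      rw [Subgroup.index_ker, hcard] at h
      have := Nat.mul_le_mul hlt ((Subgroup.card_le_of_le hrle).trans hmap.le)
      rw [h, ← pow_succ] at this
      have := (Nat.pow_le_pow_iff_right hp.one_lt).1 this
      omega
  -- splitting off a central subgroup of order `p`
  have hsplit : ∀ u v : H, u * v ≠ v * u → Nat.card (Subgroup.closure ({u, v} : Set H)) = p ^ 3 ∧
      Nonempty (↥H ≃* ↥(Subgroup.closure ({u, v} : Set H)) × Multiplicative (ZMod p)) := by
    intro u v huv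
    set E₀ := Subgroup.closure ({u, v} : Set H) with hE₀
    have hu : u ∈ E₀ := Subgroup.subset_closure (Or.inl rfl)
    have hv : v ∈ E₀ := Subgroup.subset_closure (Or.inr rfl)
    let q := QuotientGroup.mk' D
    have hqcomm : ∀ a b : ↥H ⧸ D, a * b = b * a := by
      intro a b
      obtain ⟨a, rfl⟩ := QuotientGroup.mk'_surjective D a
      obtain ⟨b, rfl⟩ := QuotientGroup.mk'_surjective D b
      rw [← commutatorElement_eq_one_iff_mul_comm, ← map_commutatorElement]
      refine (QuotientGroup.eq_one_iff _).2 ?_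
      rw [show D = _ from commutator_def _]
      exact Subgroup.commutator_mem_commutator (Subgroup.mem_top _) (Subgroup.mem_top _)
    have hle3 : Nat.card E₀ ≤ p ^ 3 := by
      letI : CommGroup (↥H ⧸ D) :=
        { (inferInstance : Group (↥H ⧸ D)) with mul_comm := hqcomm }
      let m : ↥(Subgroup.zpowers (q u)) × ↥(Subgroup.zpowers (q v)) →* ↥H ⧸ D :=
        (Subgroup.subtype _).coprod (Subgroup.subtype _)
      have hE : E₀ ≤ m.range.comap q := by
        rw [hE₀, Subgroup.closure_le]
        rintro a (rfl | rfl)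
        · exact ⟨(⟨q a, Subgroup.mem_zpowers _⟩, 1), by simp [m]⟩
        · exact ⟨(1, ⟨q a, Subgroup.mem_zpowers _⟩), by simp [m]⟩
      refine (Subgroup.card_le_of_le hE).trans ?_
      have hm : Nat.card m.range ≤ p * p := by
        refine (Nat.card_le_card_of_surjective m.rangeRestrict m.rangeRestrict_surjective).trans ?_
        rw [Nat.card_prod]
        have ho : ∀ a : H, orderOf (q a) ≤ p := fun a => Nat.le_of_dvd hp.pos
          (orderOf_dvd_of_pow_eq_one (by
            rw [← map_pow]; exact (QuotientGroup.eq_one_iff _).2 (hpD a)))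
        rw [Nat.card_zpowers, Nat.card_zpowers]
        exact Nat.mul_le_mul (ho u) (ho v)
      have h1 := (m.range.comap q).card_mul_index
      rw [Subgroup.index_comap_of_surjective _ (QuotientGroup.mk'_surjective D), hcard] at h1
      have h2 := m.range.card_mul_index
      have h3 : Nat.card (↥H ⧸ D) = p ^ 3 := by
        have h := Subgroup.card_eq_card_quotient_mul_card_subgroup D
        rw [hcard, hDc] at h
        exact Nat.eq_of_mul_eq_mul_right hp.pos (by rw [← h]; ring)
      rw [h3] at h2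
      refine Nat.le_of_mul_le_mul_right (c := m.range.index) ?_
        (Nat.pos_of_ne_zero Subgroup.index_ne_zero_of_finite)
      rw [h1]
      calc p ^ 4 = p * (Nat.card m.range * m.range.index) := by rw [h2]; ring
        _ ≤ p * (p * p * m.range.index) := by gcongr
        _ = p ^ 3 * m.range.index := by ring
    have hE₀c : Nat.card E₀ = p ^ 3 := by
      obtain ⟨i, hi⟩ := IsPGroup.iff_card.1 (hH.to_subgroup E₀)
      rw [hi] at hle3 ⊢
      have hi3 := (Nat.pow_le_pow_iff_right hp.one_lt).1 hle3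
      have hnc : ¬ IsMulCommutative E₀ := fun h =>
        huv (congrArg Subtype.val (h.is_comm.comm ⟨u, hu⟩ ⟨v, hv⟩))
      by_contra hne
      refine hnc ?_
      rcases (show i = 0 ∨ i = 1 ∨ i = 2 by
        by_contra h; exact hne (by rw [show i = 3 by omega])) with rfl | rfl | rfl
      · haveI : Subsingleton E₀ := (Nat.card_eq_one_iff_unique.1 (by simpa using hi)).1
        exact ⟨⟨fun _ _ => Subsingleton.elim _ _⟩⟩
      · haveI := isCyclic_of_prime_card (p := p) (by simpa using hi)
        infer_instance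
      · exact IsPGroup.isMulCommutative_of_card_eq_prime_sq hi
    obtain ⟨z, hz, hzE⟩ : ∃ z ∈ Subgroup.center ↥H, z ∉ E₀ := SetLike.not_le_iff_exists.1 fun h => by
      have htop : E₀ = ⊤ := by
        rw [← top_le_iff, ← closure_center_eq_top hcard hk huv, Subgroup.closure_le]
        rintro a ((rfl | rfl) | ha)
        · exact hu
        · exact hv
        · exact h ha
      rw [htop, Subgroup.card_top, hcard] at hE₀c
      exact absurd (Nat.pow_right_injective hp.two_le hE₀c) (by norm_num)
    have hzo : Nat.card (Subgroup.zpowers z) = p := by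
      rw [Nat.card_zpowers]
      exact orderOf_eq_prime (hze z hz) fun h => hzE (h ▸ one_mem _)
    let m : ↥E₀ × ↥(Subgroup.zpowers z) →* H :=
      E₀.subtype.noncommCoprod (Subgroup.zpowers z).subtype fun a b =>
        Subgroup.mem_center_iff.1 (Subgroup.zpowers_le.2 hz b.2) a
    have hinj : Function.Injective m := by
      rw [injective_iff_map_eq_one]
      rintro ⟨a, b⟩ hab
      have hab' : (a : H) * b = 1 := hab
      have hbE : (b : H) ∈ E₀ := by rw [eq_inv_of_mul_eq_one_right hab']; exact E₀.inv_mem a.2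
      have hb1 : b = 1 := by
        by_contra hb
        refine hzE ?_
        have hmem : (⟨z, Subgroup.mem_zpowers z⟩ : Subgroup.zpowers z) ∈ Subgroup.zpowers b :=
          (zpowers_eq_top_of_prime_card hzo hb).symm ▸ Subgroup.mem_top _
        obtain ⟨i, hi⟩ := Subgroup.mem_zpowers_iff.1 hmem
        rw [← show ((b ^ i : Subgroup.zpowers z) : H) = z from congrArg Subtype.val hi,
          SubgroupClass.coe_zpow]
        exact E₀.zpow_mem hbE i
      subst hb1
      simp at hab'
      simp [hab', Prod.ext_iff]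
    have hbij : Function.Bijective m := (Nat.bijective_iff_injective_and_card m).2 ⟨hinj, by
      rw [Nat.card_prod, hE₀c, hzo, hcard]; ring⟩
    refine ⟨hE₀c, ⟨(MulEquiv.ofBijective m hbij).symm.trans
      (MulEquiv.prodCongr (MulEquiv.refl _) (mulEquivOfPrimeCardEq hzo ?_))⟩⟩
    rw [Nat.card_congr Multiplicative.toAdd, Nat.card_zmod]
  rcases hp.eq_two_or_odd' with rfl | hodd
  · refine Or.inr (Or.inl ⟨rfl, ?_⟩)
    have hsq : ∀ a : H, a ^ 2 = 1 ∨ a ^ 2 = ⁅x, y⁆ := by
      intro a
      by_cases h : a ^ 2 = 1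
      · exact Or.inl h
      right
      obtain ⟨u, -, huv⟩ := (Nat.card_eq_two_iff' (1 : D)).1 hDc
      have h1 : (⟨a ^ 2, hpD a⟩ : D) = u := huv _ (fun e => h (congrArg Subtype.val e))
      have h2 : (⟨⁅x, y⁆, by
          rw [show D = _ from commutator_def _]
          exact Subgroup.commutator_mem_commutator (Subgroup.mem_top x) (Subgroup.mem_top y)⟩ : D) = u :=
        huv _ (fun e => hxy' (congrArg Subtype.val e))
      exact congrArg Subtype.val (h1.trans h2.symm)
    by_cases hQ : ∃ u v : H, u ^ 2 ≠ 1 ∧ v ^ 2 ≠ 1 ∧ u * v ≠ v * u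
    · obtain ⟨u, v, hu, hv, huv⟩ := hQ
      obtain ⟨hc8, ⟨e⟩⟩ := hsplit u v huv
      let E₀ := Subgroup.closure ({u, v} : Set H)
      let a : E₀ := ⟨u, Subgroup.subset_closure (Or.inl rfl)⟩
      let b : E₀ := ⟨v, Subgroup.subset_closure (Or.inr rfl)⟩
      have hu2 := (hsq u).resolve_left hu
      have hv2 := (hsq v).resolve_left hv
      have hcuv : ⁅u⁻¹, v⁻¹⁆ = ⁅x, y⁆ := by
        obtain ⟨w, -, huniv⟩ := (Nat.card_eq_two_iff' (1 : D)).1 hDc
        have hne : ⁅u⁻¹, v⁻¹⁆ ≠ 1 := fun h => huv (by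
          have h1 : Commute u⁻¹ v⁻¹ := commutatorElement_eq_one_iff_mul_comm.1 h
          simpa using h1.inv_inv.eq)
        have hmem : ∀ s t : H, ⁅s, t⁆ ∈ D := fun s t => by
          rw [show D = _ from commutator_def _]
          exact Subgroup.commutator_mem_commutator (Subgroup.mem_top _) (Subgroup.mem_top _)
        exact congrArg Subtype.val ((huniv (⟨_, hmem _ _⟩ : D) (fun e => hne (congrArg Subtype.val e))).trans
          (huniv (⟨_, hmem x y⟩ : D) (fun e => hxy' (congrArg Subtype.val e))).symm)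
      have hu4 : u ^ 4 = 1 := by
        rw [show (4 : ℕ) = 2 * 2 from rfl, pow_mul, hu2]; exact hep x y
      have hconj : v⁻¹ * u * v = u⁻¹ := by
        calc v⁻¹ * u * v = u * ⁅u⁻¹, v⁻¹⁆ := by simp only [commutatorElement_def]; group
          _ = u * u ^ 2 := by rw [hcuv, hu2]
          _ = u⁻¹ := eq_inv_of_mul_eq_one_left (by rw [← pow_succ', ← pow_succ]; exact hu4)
      obtain ⟨eQ⟩ := Cfsg.Agent.S4189.nonempty_equiv_quaternion a b (hc8.trans (by norm_num))
        (fun h => hu (congrArg Subtype.val h)) (Subtype.ext hu4) (Subtype.ext (hv2.trans hu2.symm))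
        (Subtype.ext hconj) (by
          have h := Subgroup.closure_closure_coe_preimage (k := ({u, v} : Set H))
          refine Eq.trans ?_ h
          congr 1
          ext ⟨w, hw⟩
          simp [a, b])
      exact ⟨e.trans (MulEquiv.prodCongr eQ (MulEquiv.refl _))⟩
    · exfalso
      push Not at hQ
      let K := Subgroup.closure ({a : H | a ^ 2 ≠ 1} ∪ (Subgroup.center ↥H : Set H))
      have hKab : ∀ a ∈ K, ∀ b ∈ K, a * b = b * a := by
        haveI : IsMulCommutative K := Subgroup.isMulCommutative_closure (by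
          rintro a (ha | ha) b (hb | hb)
          · exact hQ a b ha hb
          · exact Subgroup.mem_center_iff.1 hb a
          · exact (Subgroup.mem_center_iff.1 ha b).symm
          · exact Subgroup.mem_center_iff.1 hb a)
        exact fun a ha b hb => congrArg Subtype.val (mul_comm' (⟨a, ha⟩ : K) ⟨b, hb⟩)
      have hKne : K ≠ ⊤ := fun h =>
        hxy (hKab x (h ▸ Subgroup.mem_top x) y (h ▸ Subgroup.mem_top y))
      obtain ⟨w, hw⟩ : ∃ w : H, w ^ 2 ≠ 1 := by
        by_contra h
        push Not at h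
        refine hxy ?_
        have hinv : ∀ a : H, a⁻¹ = a := fun a => inv_eq_of_mul_eq_one_right (by rw [← pow_two]; exact h a)
        rw [← hinv (x * y), mul_inv_rev, hinv, hinv]
      have hZK : Subgroup.center ↥H < K := by
        refine lt_of_le_of_ne (fun z hz => Subgroup.subset_closure (Or.inr hz)) fun h => hw ?_
        exact hze w (h ▸ Subgroup.subset_closure (Or.inl hw))
      refine false_of_four hS hess hcard (K := K) (W := Subgroup.center ↥H) (Z := D)
        (Subgroup.characteristic_iff_map_le.2 fun φ => ?_) inferInstance inferInstance hZK.le hDle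
        (card_eq_cube hcard hKne ?_) hk hDc
      · rw [MonoidHom.map_closure, Subgroup.closure_le]
        rintro _ ⟨a, (ha | ha), rfl⟩
        · refine Subgroup.subset_closure (Or.inl fun h => ha (φ.injective ?_))
          rw [map_pow, map_one]; exact h
        · exact Subgroup.subset_closure (Or.inr (Subgroup.characteristic_iff_map_le.1
            (inferInstance : (Subgroup.center ↥H).Characteristic) φ ⟨a, ha, rfl⟩))
      · have := card_eq_pow_of_lt hH hZK hk
        omega
  refine Or.inl ⟨hodd, ?_⟩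
  have hp2 : p ≠ 2 := fun h => by subst h; exact (Nat.not_odd_iff_even.2 even_two) hodd
  have hexp : ∀ a : H, a ^ p = 1 := by
    let f := pPowHom hp2 hc hep
    by_contra hno
    push Not at hno
    obtain ⟨a, ha⟩ := hno
    have hne : f.ker ≠ ⊤ := fun h => ha (MonoidHom.mem_ker.1 (h ▸ Subgroup.mem_top a) : f a = 1)
    have hrle : f.range ≤ D := by
      rintro _ ⟨b, rfl⟩
      exact hpD b
    refine false_of_four hS hess hcard (K := f.ker) (W := Subgroup.center ↥H) (Z := D)
      (characteristic_of_forall fun φ b hb => ?_) inferInstance inferInstance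
      (fun z hz => hze z hz) hDle (card_eq_cube hcard hne ?_) hk hDc
    · show φ b ^ p = 1
      rw [← map_pow, show b ^ p = 1 from hb, map_one]
    · by_contra hlt
      push Not at hlt
      have h := f.ker.card_mul_index
      rw [Subgroup.index_ker, hcard] at h
      have := Nat.mul_le_mul hlt ((Subgroup.card_le_of_le hrle).trans hDc.le)
      rw [h, ← pow_succ] at this
      have := (Nat.pow_le_pow_iff_right hp.one_lt).1 this
      omega
  obtain ⟨hc3, ⟨e⟩⟩ := hsplit x y hxy
  let E₀ := Subgroup.closure ({x, y} : Set H)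
  have hE₀na : ¬ IsMulCommutative ↥E₀ := fun h => hxy (congrArg Subtype.val
    (h.is_comm.comm ⟨x, Subgroup.subset_closure (Or.inl rfl)⟩
      ⟨y, Subgroup.subset_closure (Or.inr rfl)⟩))
  -- transport to a type in the lowest universe
  let eF : FinCopy (Nat.card ↥E₀) ≃ ↥E₀ := (Finite.equivFin ↥E₀).symm
  letI : Group (FinCopy (Nat.card ↥E₀)) := eF.group
  let eM : FinCopy (Nat.card ↥E₀) ≃* ↥E₀ := eF.mulEquiv
  have hcF : Nat.card (FinCopy (Nat.card ↥E₀)) = p ^ 3 := by
    rw [Nat.card_congr eF]; exact hc3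
  have hnaF : ¬ IsMulCommutative (FinCopy (Nat.card ↥E₀)) := fun h => hE₀na ⟨⟨fun a b =>
    eM.symm.injective (by rw [map_mul, map_mul]; exact h.is_comm.comm _ _)⟩⟩
  obtain ⟨hZp, hcomm, hfr, -⟩ := center_of_card_cube hcF hnaF
  refine ⟨FinCopy (Nat.card ↥E₀), inferInstance, inferInstance,
    ⟨⟨IsPGroup.of_card hcF, hfr, hcomm⟩, hZp⟩, hcF, fun a => eM.injective ?_,
    ⟨e.trans (MulEquiv.prodCongr eM.symm (MulEquiv.refl _))⟩⟩
  rw [map_pow, map_one]
  exact Subtype.ext (hexp _)

end CfsgLib.FusionEssential
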